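import Cfsg.Agent.Lib.S4997.Defs
import Cfsg.Agent.Lib.Basic.PCore

/-! S4997 piece T1b -/

namespace Cfsg.Agent.Lib.S4997
universe u

theorem mem_pCore_of_centralizes {G : Type u} [Group G] [Finite G] {p : ℕ} [Fact p.Prime]
    (N R : Subgroup G) [N.Normal] [R.Normal] (hNR : N ≤ R) (hNcop : (Nat.card N).Coprime p)
    (hRp : ∀ a ∈ R, ∃ k : ℕ, a ^ (p ^ k) ∈ N) {x : G} (hxR : x ∈ R) (hxp : ∃ k : ℕ, x ^ (p ^ k) = 1)
    (hxc : ∀ n ∈ N, x * n = n * x) : x ∈ Cfsg.pCore p G := by
  classical
  set C : Subgroup G := R ⊓ Subgroup.centralizer (N : Set G) with hC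
  have hCn : C.Normal := by
    have hZ : (Subgroup.centralizer (N : Set G)).Normal := by
      constructor
      intro a ha g
      have ha' : ∀ n ∈ N, n * a = a * n := fun n hn => Subgroup.mem_centralizer_iff.mp ha n hn
      refine Subgroup.mem_centralizer_iff.mpr ?_
      intro n hn
      have hn' : g⁻¹ * n * g ∈ N := by
        simpa using (inferInstance : N.Normal).conj_mem n hn g⁻¹
      have := ha' _ hn'
      calc n * (g * a * g⁻¹) = g * ((g⁻¹ * n * g) * a) * g⁻¹ := by group
        _ = g * (a * (g⁻¹ * n * g)) * g⁻¹ := by rw [this]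
        _ = g * a * g⁻¹ * n := by group
    exact Subgroup.normal_inf_normal _ _
  have hxC : x ∈ C := by
    refine ⟨hxR, ?_⟩
    refine Subgroup.mem_centralizer_iff.mpr ?_
    intro n hn
    exact (hxc n hn).symm
  let f : ↥C →* G ⧸ N := (QuotientGroup.mk' N).comp C.subtype
  have hker : f.ker ≤ Subgroup.center ↥C := by
    intro a ha
    have haN : (a : G) ∈ N := by
      have : (QuotientGroup.mk' N) (a : G) = 1 := ha
      simpa using this
    rw [Subgroup.mem_center_iff]
    intro b
    apply Subtype.ext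
    exact (Subgroup.mem_centralizer_iff.mp b.2.2 _ haN).symm
  have hrange : Group.IsNilpotent f.range := by
    have hp : IsPGroup p f.range := by
      rintro ⟨y, a, rfl⟩
      obtain ⟨k, hk⟩ := hRp a a.2.1
      refine ⟨k, ?_⟩
      apply Subtype.ext
      show f a ^ (p ^ k) = 1
      show (QuotientGroup.mk' N) ((a : G) ^ (p ^ k)) = 1
      exact (QuotientGroup.eq_one_iff _).mpr hk
    exact hp.isNilpotent
  have hnil : Group.IsNilpotent ↥C := by
    have := hrange
    exact Subgroup.isNilpotent_of_ker_le_center f.rangeRestrict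
      (by rw [MonoidHom.ker_rangeRestrict]; exact hker)
  obtain ⟨k, hk⟩ := hxp
  have hpp : p.Prime := Fact.out
  obtain ⟨j, -, hj⟩ := (Nat.dvd_prime_pow hpp).mp (orderOf_dvd_of_pow_eq_one hk)
  exact Cfsg.Agent.Lib.Basic.PCore.mem_pCore_of_normal_nilpotent hCn hnil hxC hpp hj

end Cfsg.Agent.Lib.S4997
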