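import Mathlib
import Cfsg.Prelude.Def_Characters
import Cfsg.Prelude.Def_Solvable

/-!
# S4997: common definitions

`LemmaGBelow p r n`: statement of Lemma G for modules of order below `n`.
The conjugation action of `G` on the dual `Hom(N, ℂˣ)` of a normal subgroup `N`, written additively.
-/

namespace Cfsg.Agent.Lib.S4997

universe u

/-- Lemma G for all irreducible modules with fewer than `n` elements. -/
def LemmaGBelow (p r n : ℕ) : Prop :=
  ∀ (Γ V : Type u) [Group Γ] [Finite Γ] [AddCommGroup V] [Finite V] [DistribMulAction Γ V],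
    Nat.card V < n → (∀ v : V, r • v = 0) →
    (∀ W : AddSubgroup V, (∀ g : Γ, ∀ v ∈ W, g • v ∈ W) → W = ⊥ ∨ W = ⊤) →
    ∀ R : Subgroup Γ, R.Normal → (∀ a ∈ R, ∃ k : ℕ, ∀ v : V, a ^ (p ^ k) • v = v) →
    ∀ x ∈ R, (∃ v : V, x • v ≠ v) → ∃ v : V, ∀ g : Γ, (g * x * g⁻¹) • v ≠ v

/-- `g • λ = λ ∘ (conjugation by g⁻¹)` on `N →* ℂˣ`, written additively. -/
noncomputable instance dualAction {G : Type u} [Group G] (N : Subgroup G) [N.Normal] :
    DistribMulAction G (Additive (↥N →* ℂˣ)) where
  smul g l := Additive.ofMul ((Additive.toMul l).comp (MulAut.conjNormal g⁻¹ : MulAut N).toMonoidHom)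
  one_smul l := by
    apply Additive.toMul.injective
    ext n
    show ((Additive.toMul l) ((MulAut.conjNormal (1 : G)⁻¹ : MulAut N) n) : ℂ) = _
    simp
  mul_smul a b l := by
    apply Additive.toMul.injective
    ext n
    show ((Additive.toMul l) ((MulAut.conjNormal (a * b)⁻¹ : MulAut N) n) : ℂ) =
      ((Additive.toMul l) ((MulAut.conjNormal b⁻¹ : MulAut N) ((MulAut.conjNormal a⁻¹ : MulAut N) n)) : ℂ)
    congr 2
    apply Subtype.ext
    simp [mul_assoc]
  smul_zero g := by
    apply Additive.toMul.injective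
    ext n
    rfl
  smul_add g a b := by
    apply Additive.toMul.injective
    ext n
    rfl

theorem dualAction_apply {G : Type u} [Group G] (N : Subgroup G) [hN : N.Normal] (g : G)
    (l : Additive (↥N →* ℂˣ)) (n : N) :
    Additive.toMul (g • l) n = Additive.toMul l ⟨g⁻¹ * n * g, by
      simpa using hN.conj_mem (n : G) n.2 g⁻¹⟩ := by
  show (Additive.toMul l) ((MulAut.conjNormal g⁻¹ : MulAut N) n) = _
  congr 1
  apply Subtype.ext
  simp

/-- Fixed points of `y`. -/
def fixAdd {X V : Type u} [Group X] [AddCommGroup V] [DistribMulAction X V] (y : X) : AddSubgroup V where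
  carrier := {v | y • v = v}
  add_mem' := by
    intro a b ha hb
    change y • a = a at ha
    change y • b = b at hb
    change y • (a + b) = a + b
    rw [smul_add, ha, hb]
  zero_mem' := smul_zero y
  neg_mem' := by
    intro a ha
    change y • a = a at ha
    change y • (-a) = -a
    rw [smul_neg, ha]

theorem mem_fixAdd {X V : Type u} [Group X] [AddCommGroup V] [DistribMulAction X V] {y : X} {v : V} :
    v ∈ (fixAdd y : AddSubgroup V) ↔ y • v = v := Iff.rfl

end Cfsg.Agent.Lib.S4997
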