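import Mathlib
import Cfsg.Agent.Lib.S4997.Defs
import Cfsg.Agent.Lib.Char.ItoMichler
import Cfsg.Agent.Lib.Char.CliffordCorr
import Cfsg.Agent.Lib.Char.LinearChars
import Cfsg.Agent.Lib.Char.FrobeniusKernel
import Cfsg.Agent.Lib.Char.Monomial

/-! Piece T1c of S4997: a linear character of a normal abelian subgroup whose inertia group misses
the class of `g` gives an irreducible character vanishing at `g`. -/

set_option autoImplicit false

namespace Cfsg.Agent.Lib.S4997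

open Cfsg Cfsg.Agent.Lib.Char

universe u

theorem exists_irr_zero_of_dual {G : Type u} [Group G] [Finite G] (N : Subgroup G) [hN : N.Normal]
    (hNab : ∀ a ∈ N, ∀ b ∈ N, a * b = b * a) (l : Additive (↥N →* ℂˣ)) (g : G)
    (hg : ∀ h : G, (h * g * h⁻¹) • l ≠ l) :
    ∃ χ : Cfsg.IrrCharacter G, (χ : G → ℂ) g = 0 := by
  classical
  let _ : Fintype G := Fintype.ofFinite _
  let _ : Fintype N := Fintype.ofFinite _
  let μ : N →* ℂˣ := Additive.toMul l
  let ϑ : N → ℂ := fun n => ((μ n : ℂˣ) : ℂ)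
  have hϑ : IsIrrCharacter N ϑ := LinearChars.isIrr_of_hom μ
  obtain ⟨χ, hχ, hne⟩ := ItoMichler.exists_irr_over N hϑ
  let T : Subgroup G := Monomial.inertiaOf N ϑ
  have hT := Monomial.mem_inertiaOf N ϑ
  have hNT : N ≤ T := by
    intro y hy
    rw [hT]
    intro n
    congr 1
    apply Subtype.ext
    show y * (n : G) * y⁻¹ = n
    rw [hNab y hy n n.2]
    group
  obtain ⟨ψ, hψ, hind, -⟩ := CliffordCorr.exists_indFun_eq N ϑ T hNT hϑ hT hχ hne
  refine ⟨⟨χ, hχ⟩, ?_⟩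
  show χ g = 0
  rw [← hind]
  apply FrobeniusKernel.indFun_eq_zero_of_notMem
  intro x hx
  have hx2 := (hT _).1 hx
  apply hg x⁻¹
  apply Additive.toMul.injective
  ext n
  have hy : x⁻¹ * g * x⁻¹⁻¹ = x⁻¹ * g * x := by simp
  rw [hy, dualAction_apply]
  have h3 := hx2 ⟨(x⁻¹ * g * x)⁻¹ * n * (x⁻¹ * g * x), by
    simpa using hN.conj_mem (n : G) n.2 (x⁻¹ * g * x)⁻¹⟩
  have h4 : (⟨x⁻¹ * g * x * ((x⁻¹ * g * x)⁻¹ * n * (x⁻¹ * g * x)) * (x⁻¹ * g * x)⁻¹, by
      simpa [mul_assoc] using n.2⟩ : N) = n := by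
    apply Subtype.ext
    group
  exact h3.symm.trans (congrArg ϑ h4)

end Cfsg.Agent.Lib.S4997
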