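import Mathlib
import Cfsg.Agent.Lib.S4997.Defs

/-! S4997 piece T1a: the dual of a minimal normal abelian subgroup. -/

set_option autoImplicit false

namespace Cfsg.Agent.Lib.S4997

universe u

variable {G : Type u} [Group G] [Finite G]

theorem dual_exponent (N : Subgroup G) [N.Normal] {r : ℕ}
    (hr : ∀ n ∈ N, n ^ r = 1) (v : Additive (↥N →* ℂˣ)) : r • v = 0 := by
  apply Additive.toMul.injective
  ext n
  have h1 : Additive.toMul (r • v) = (Additive.toMul v) ^ r := toMul_nsmul r v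
  rw [h1]
  have h2 : ((Additive.toMul v) ^ r) n = (Additive.toMul v) (n ^ r) := by
    rw [MonoidHom.pow_apply, map_pow]
  have h3 : n ^ r = 1 := by
    apply Subtype.ext
    simpa using hr n n.2
  rw [h2, h3, map_one]
  rfl

theorem exists_dual_moved (N : Subgroup G) [hN : N.Normal]
    (hNab : ∀ a ∈ N, ∀ b ∈ N, a * b = b * a) {x : G} {n : G} (hn : n ∈ N) (hxn : x * n ≠ n * x) :
    ∃ v : Additive (↥N →* ℂˣ), x • v ≠ v := by
  classical
  letI cg : CommGroup N := { (inferInstance : Group N) with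
    mul_comm := fun a b => Subtype.ext (hNab a a.2 b b.2) }
  have hmem : x⁻¹ * n * x ∈ N := by simpa using hN.conj_mem n hn x⁻¹
  let a : N := ⟨x⁻¹ * n * x, hmem⟩ * (⟨n, hn⟩ : N)⁻¹
  have ha : a ≠ 1 := by
    intro h
    have h1 : x⁻¹ * n * x * n⁻¹ = 1 := congrArg Subtype.val h
    apply hxn
    have h2 : x⁻¹ * n * x = n := mul_inv_eq_one.mp h1
    calc x * n = x * (x⁻¹ * n * x) := by rw [h2]
      _ = n * x := by group
  obtain ⟨φ, hφ⟩ := CommGroup.exists_apply_ne_one_of_hasEnoughRootsOfUnity N ℂ ha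
  refine ⟨Additive.ofMul φ, fun h => hφ ?_⟩
  have h1 := dualAction_apply N x (Additive.ofMul φ) ⟨n, hn⟩
  rw [h] at h1
  have h2 : φ ⟨n, hn⟩ = φ ⟨x⁻¹ * n * x, hmem⟩ := h1
  show φ (⟨x⁻¹ * n * x, hmem⟩ * (⟨n, hn⟩ : N)⁻¹) = 1
  rw [map_mul, map_inv, ← h2, mul_inv_cancel]

theorem dual_irreducible (N : Subgroup G) [hN : N.Normal]
    (hNab : ∀ a ∈ N, ∀ b ∈ N, a * b = b * a)
    (hNmin : ∀ M : Subgroup G, M.Normal → M ≤ N → M = ⊥ ∨ M = N)
    (W : AddSubgroup (Additive (↥N →* ℂˣ))) (hW : ∀ g : G, ∀ v ∈ W, g • v ∈ W) : W = ⊥ ∨ W = ⊤ := by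
  classical
  letI cg : CommGroup N := { (inferInstance : Group N) with
    mul_comm := fun a b => Subtype.ext (hNab a a.2 b b.2) }
  -- the annihilator
  let M : Subgroup G :=
    { carrier := {g | ∃ h : g ∈ N, ∀ l ∈ W, Additive.toMul l ⟨g, h⟩ = 1}
      mul_mem' := by
        rintro a b ⟨ha, hal⟩ ⟨hb, hbl⟩
        refine ⟨N.mul_mem ha hb, fun l hl => ?_⟩
        have e : (⟨a * b, N.mul_mem ha hb⟩ : N) = ⟨a, ha⟩ * ⟨b, hb⟩ := rfl
        rw [e, map_mul, hal l hl, hbl l hl, one_mul]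
      one_mem' := ⟨N.one_mem, fun l _ => map_one (Additive.toMul l)⟩
      inv_mem' := by
        rintro a ⟨ha, hal⟩
        refine ⟨N.inv_mem ha, fun l hl => ?_⟩
        have e : (⟨a⁻¹, N.inv_mem ha⟩ : N) = (⟨a, ha⟩ : N)⁻¹ := rfl
        rw [e, map_inv, hal l hl, inv_one] }
  have hMle : M ≤ N := fun g hg => hg.1
  have hMn : M.Normal := by
    constructor
    rintro a ⟨ha, hal⟩ g
    have hm : g * a * g⁻¹ ∈ N := hN.conj_mem a ha g
    refine ⟨hm, fun l hl => ?_⟩
    have h1 := dualAction_apply N g⁻¹ l ⟨a, ha⟩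
    have h2 := hal (g⁻¹ • l) (hW g⁻¹ l hl)
    rw [h1] at h2
    have e : (⟨g⁻¹⁻¹ * a * g⁻¹, by simpa using hN.conj_mem a ha g⟩ : N) = ⟨g * a * g⁻¹, hm⟩ := by
      apply Subtype.ext
      simp
    rw [e] at h2
    exact h2
  rcases hNmin M hMn hMle with hbot | htop
  · -- `M = ⊥`: evaluation embeds `N` in the dual of `W`
    right
    let ev : N → (Multiplicative W →* ℂˣ) := fun n =>
      { toFun := fun l => Additive.toMul ((Multiplicative.toAdd l : W) : Additive (↥N →* ℂˣ)) n
        map_one' := rfl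
        map_mul' := fun a b => rfl }
    have hinj : Function.Injective ev := by
      intro a b hab
      have hmem : ((a * b⁻¹ : N) : G) ∈ M := by
        refine ⟨(a * b⁻¹ : N).2, fun l hl => ?_⟩
        have h1 := congrArg (fun f => f (Multiplicative.ofAdd (⟨l, hl⟩ : W))) hab
        have h2 : Additive.toMul l a = Additive.toMul l b := h1
        show Additive.toMul l (a * b⁻¹) = 1
        rw [map_mul, map_inv, h2, mul_inv_cancel]
      rw [hbot, Subgroup.mem_bot] at hmem
      have h3 : a * b⁻¹ = 1 := Subtype.ext hmem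
      exact mul_inv_eq_one.mp h3
    haveI : Finite (↥N →* ℂˣ) := by
      apply Nat.finite_of_card_ne_zero
      rw [CommGroup.card_monoidHom_of_hasEnoughRootsOfUnity N ℂ]
      exact Nat.card_pos.ne'
    haveI : Finite (Additive (↥N →* ℂˣ)) := inferInstanceAs (Finite (↥N →* ℂˣ))
    have h1 : Nat.card N ≤ Nat.card (Multiplicative W →* ℂˣ) := by
      haveI : Finite (Multiplicative W) := inferInstanceAs (Finite W)
      haveI : Finite (Multiplicative W →* ℂˣ) := by
        apply Nat.finite_of_card_ne_zero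
        rw [CommGroup.card_monoidHom_of_hasEnoughRootsOfUnity (Multiplicative W) ℂ]
        exact Nat.card_pos.ne'
      exact Nat.card_le_card_of_injective ev hinj
    have h2 : Nat.card (Multiplicative W →* ℂˣ) = Nat.card W := by
      haveI : Finite (Multiplicative W) := inferInstanceAs (Finite W)
      rw [CommGroup.card_monoidHom_of_hasEnoughRootsOfUnity (Multiplicative W) ℂ]
      rfl
    have h3 : Nat.card (Additive (↥N →* ℂˣ)) = Nat.card N := by
      show Nat.card (↥N →* ℂˣ) = Nat.card N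
      exact CommGroup.card_monoidHom_of_hasEnoughRootsOfUnity N ℂ
    apply AddSubgroup.eq_top_of_le_card
    rw [h3, ← h2]
    exact h1
  · -- `M = N`: `W` is trivial
    left
    rw [AddSubgroup.eq_bot_iff_forall]
    intro l hl
    apply Additive.toMul.injective
    ext n
    have hn : (n : G) ∈ M := by
      rw [htop]
      exact n.2
    obtain ⟨_, h⟩ := hn
    have := h l hl
    show ((Additive.toMul l n : ℂˣ) : ℂ) = 1
    rw [this]
    rfl

end Cfsg.Agent.Lib.S4997
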