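import Mathlib
import Cfsg.Prelude.Def_Characters
import Cfsg.Prelude.Def_Solvable
import Cfsg.Agent.Lib.Solvable.MinimalNormal
import Cfsg.Agent.Lib.Basic.PCore
import Cfsg.Agent.Lib.Char.Basic
import Cfsg.Agent.Lib.S4997.Dual
import Cfsg.Agent.Lib.S4997.CentLemma
import Cfsg.Agent.Lib.S4997.CliffVanish

/-! Piece T1d of S4997: a `p`-element outside `O_p(G)` times a commuting `p'`-element is vanishing.
Lemma G is taken as a hypothesis here; `Vanish.lean` gives the exact statement. -/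

set_option autoImplicit false

namespace Cfsg.Agent.Lib.S4997
universe u
open Cfsg Cfsg.Agent.Lib.Solvable.MinimalNormal Cfsg.Agent.Lib.Basic.PCore

/-- `x` is a power of `x * u`. -/
theorem exists_pow_eq_of_commute {G : Type u} [Group G] [Finite G] {p : ℕ} [hp : Fact p.Prime]
    {x u : G} (hxu : Commute x u) (hxp : ∃ k : ℕ, x ^ (p ^ k) = 1) (hu : (orderOf u).Coprime p) :
    ∃ m : ℕ, (x * u) ^ m = x := by
  obtain ⟨k, hk⟩ := hxp
  rcases Nat.eq_zero_or_pos k with rfl | hk0
  · refine ⟨0, ?_⟩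
    simpa using hk.symm
  have h1 : 1 < p ^ k := Nat.one_lt_pow hk0.ne' hp.out.one_lt
  have hc : Nat.Coprime (orderOf u) (p ^ k) := Nat.Coprime.pow_right k hu
  obtain ⟨a, -, ha⟩ := Nat.exists_mul_mod_eq_one_of_coprime hc h1
  refine ⟨orderOf u * a, ?_⟩
  rw [hxu.mul_pow, pow_mul u, pow_orderOf_eq_one, one_pow, mul_one, pow_eq_pow_mod _ hk, ha, pow_one]

/-- `N` acts trivially on its dual. -/
theorem dual_trivial {G : Type u} [Group G] (N : Subgroup G) [N.Normal]
    (hNab : ∀ a ∈ N, ∀ b ∈ N, a * b = b * a) {n : G} (hn : n ∈ N)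
    (v : Additive (↥N →* ℂˣ)) : n • v = v := by
  apply Additive.toMul.injective
  ext m
  rw [dualAction_apply]
  congr 2
  apply Subtype.ext
  show n⁻¹ * (m : G) * n = m
  rw [hNab n⁻¹ (N.inv_mem hn) m m.2]
  group

theorem exists_vanishing_aux (hLG : ∀ (p r : ℕ) [Fact p.Prime] [Fact r.Prime], p ≠ 2 → r ≠ p →
      ∀ n : ℕ, LemmaGBelow.{u} p r n) (n : ℕ) :
    ∀ (G : Type u) [Group G] [Finite G], Nat.card G = n →
    Group.IsSolvable G → ∀ {p : ℕ} [Fact p.Prime], p ≠ 2 → ∀ {x u : G}, Commute x u →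
    (∃ k : ℕ, x ^ (p ^ k) = 1) → (orderOf u).Coprime p → x ∉ Cfsg.pCore p G →
    ∃ χ : Cfsg.IrrCharacter G, (χ : G → ℂ) (x * u) = 0 := by
  induction n using Nat.strong_induction_on with
  | _ n ih =>
  intro G _ _ hn hsolv p hpf hp x u hxu hxp hu hx
  haveI : Nontrivial G := by
    by_contra h
    rw [not_nontrivial_iff_subsingleton] at h
    apply hx
    rw [Subsingleton.elim x 1]
    exact Subgroup.one_mem _
  obtain ⟨N, hN⟩ := exists_isMinNormal (G := G)
  haveI hNn : N.Normal := hN.normal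
  obtain ⟨hcomm, r, hr, hrN⟩ := hN.elementary
  haveI : Fact r.Prime := ⟨hr⟩
  have hNab : ∀ a ∈ N, ∀ b ∈ N, a * b = b * a := fun a ha b hb =>
    congrArg Subtype.val (hcomm.is_comm.comm ⟨a, ha⟩ ⟨b, hb⟩)
  let π : G →* G ⧸ N := QuotientGroup.mk' N
  by_cases hxQ : π x ∈ pCore p (G ⧸ N)
  swap
  · have hlt : Nat.card (G ⧸ N) < n := by
      rw [← hn]
      have h1 := Subgroup.card_eq_card_quotient_mul_card_subgroup N
      have h2 : 1 < Nat.card N := by
        haveI := (Subgroup.nontrivial_iff_ne_bot N).2 hN.ne_bot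
        exact Finite.one_lt_card
      have h3 : 0 < Nat.card (G ⧸ N) := Nat.card_pos
      rw [h1]
      exact lt_mul_of_one_lt_right h3 h2
    obtain ⟨k, hk⟩ := hxp
    have hcop : (orderOf (π u)).Coprime p := by
      exact Nat.Coprime.coprime_dvd_left (orderOf_map_dvd π u) hu
    obtain ⟨χ, hχ⟩ := ih _ hlt (G ⧸ N) rfl inferInstance hp (x := π x) (u := π u) (hxu.map π)
      ⟨k, by rw [← map_pow, hk, map_one]⟩ hcop hxQ
    refine ⟨⟨fun g => χ.1 (π g), Cfsg.Agent.Lib.Char.Basic.isIrrCharacter_comp_surjective χ.2 π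
      (QuotientGroup.mk'_surjective N)⟩, ?_⟩
    show χ.1 (π (x * u)) = 0
    rw [map_mul]
    exact hχ
  · set R : Subgroup G := (pCore p (G ⧸ N)).comap π with hRdef
    haveI hQn : (pCore p (G ⧸ N)).Normal := pCore_normal p _
    have hRn : R.Normal := Subgroup.Normal.comap hQn π
    have hNR : N ≤ R := by
      intro a ha
      show π a ∈ pCore p (G ⧸ N)
      have : π a = 1 := (QuotientGroup.eq_one_iff a).2 ha
      rw [this]
      exact Subgroup.one_mem _
    have hRp : ∀ a ∈ R, ∃ k : ℕ, a ^ (p ^ k) ∈ N := by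
      intro a ha
      obtain ⟨k, hk⟩ := (pCore_isPGroup p (G := G ⧸ N)) ⟨π a, ha⟩
      refine ⟨k, (QuotientGroup.eq_one_iff _).1 ?_⟩
      have h2 := congrArg Subtype.val hk
      show π (a ^ (p ^ k)) = 1
      rw [map_pow]
      exact h2
    have hxR : x ∈ R := hxQ
    by_cases hrp : r = p
    · exfalso
      subst hrp
      apply hx
      have hRP : IsPGroup r R := by
        intro g
        obtain ⟨k, hk⟩ := hRp g g.2
        refine ⟨k + 1, Subtype.ext ?_⟩
        have h1 := hrN _ hk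
        show (g : G) ^ (r ^ (k + 1)) = 1
        rw [pow_succ, pow_mul]
        exact h1
      exact (le_pCore hRn hRP) hxR
    · have hNP : IsPGroup r N := by
        intro g
        refine ⟨1, Subtype.ext ?_⟩
        show (g : G) ^ (r ^ 1) = 1
        rw [pow_one]
        exact hrN _ g.2
      have hNcop : (Nat.card N).Coprime p := by
        obtain ⟨m, hm⟩ := IsPGroup.iff_card.1 hNP
        rw [hm]
        exact Nat.Coprime.pow_left m ((Nat.coprime_primes hr hpf.out).2 hrp)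
      have hmoved : ∃ n₀ ∈ N, x * n₀ ≠ n₀ * x := by
        by_contra h
        have h' : ∀ n₀ ∈ N, x * n₀ = n₀ * x := fun n₀ hn₀ => by
          by_contra hc
          exact h ⟨n₀, hn₀, hc⟩
        exact hx (mem_pCore_of_centralizes N R hNR hNcop hRp hxR hxp h')
      obtain ⟨n₀, hn₀, hne⟩ := hmoved
      obtain ⟨v₀, hv₀⟩ := exists_dual_moved N hNab hn₀ hne
      haveI hfin : Finite (Additive (↥N →* ℂˣ)) := inferInstance
      have hL := hLG p r hp hrp (Nat.card (Additive (↥N →* ℂˣ)) + 1)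
      obtain ⟨v, hv⟩ := hL G (Additive (↥N →* ℂˣ)) (Nat.lt_succ_self _)
        (dual_exponent N (r := r) hrN)
        (dual_irreducible N hNab hN.2.2) R hRn
        (fun a ha => by
          obtain ⟨k, hk⟩ := hRp a ha
          exact ⟨k, fun w => dual_trivial N hNab hk w⟩)
        x hxR ⟨v₀, hv₀⟩
      obtain ⟨m, hm⟩ := exists_pow_eq_of_commute hxu hxp hu
      refine exists_irr_zero_of_dual N hNab v (x * u) (fun h hfix => hv h ?_)
      have h1 : h * x * h⁻¹ = (h * (x * u) * h⁻¹) ^ m := by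
        rw [conj_pow, hm]
      rw [h1]
      exact (MulAction.stabilizer G v).pow_mem hfix m

/-- **T1d**, with Lemma G as a hypothesis. -/
theorem exists_vanishing_core (hLG : ∀ (p r : ℕ) [Fact p.Prime] [Fact r.Prime], p ≠ 2 → r ≠ p →
      ∀ n : ℕ, LemmaGBelow.{u} p r n) {G : Type u} [Group G] [Finite G]
    (hsolv : Group.IsSolvable G) {p : ℕ} [Fact p.Prime] (hp : p ≠ 2) {x u : G} (hxu : Commute x u)
    (hxp : ∃ k : ℕ, x ^ (p ^ k) = 1) (hu : (orderOf u).Coprime p) (hx : x ∉ Cfsg.pCore p G) :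
    ∃ χ : Cfsg.IrrCharacter G, (χ : G → ℂ) (x * u) = 0 :=
  exists_vanishing_aux hLG _ G rfl hsolv hp hxu hxp hu hx

end Cfsg.Agent.Lib.S4997
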