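import Cfsg.Agent.Lib.S4997.Defs

/-! S4997 piece C: the hyperplane system of an abelian normal subgroup of exponent `p`. -/

namespace Cfsg.Agent.Lib.S4997
universe u

namespace Hyper

open scoped Pointwise

section basics

variable {Γ V : Type u} [Group Γ] [AddCommGroup V] [DistribMulAction Γ V]

/-- fixed points of a subgroup -/
def fixSub (V : Type u) [AddCommGroup V] [DistribMulAction Γ V] (H : Subgroup Γ) : AddSubgroup V where
  carrier := {v | ∀ h ∈ H, h • v = v}
  zero_mem' := by intro h _; simp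
  add_mem' := by
    intro a b ha hb h hh
    simp [smul_add, ha h hh, hb h hh]
  neg_mem' := by
    intro a ha h hh
    simp [smul_neg, ha h hh]

theorem mem_fixSub {H : Subgroup Γ} {v : V} : v ∈ fixSub V H ↔ ∀ h ∈ H, h • v = v := Iff.rfl

theorem fixSub_sup {H K : Subgroup Γ} {v : V} (h1 : v ∈ fixSub V H) (h2 : v ∈ fixSub V K) :
    v ∈ fixSub V (H ⊔ K) := by
  have : H ⊔ K ≤ MulAction.stabilizer Γ v := sup_le (fun h hh => h1 h hh) (fun h hh => h2 h hh)
  exact fun h hh => this hh

variable [Finite Γ]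

/-- sum over a subgroup -/
noncomputable def tSum (V : Type u) [AddCommGroup V] [DistribMulAction Γ V] (H : Subgroup Γ) : V →+ V :=
  letI := Fintype.ofFinite H
  ∑ h : H, DistribMulAction.toAddMonoidHom V (h : Γ)

theorem tSum_apply (H : Subgroup Γ) [Fintype H] (v : V) : tSum V H v = ∑ h : H, (h : Γ) • v := by
  simp only [tSum, AddMonoidHom.finset_sum_apply, DistribMulAction.toAddMonoidHom_apply]
  congr!

theorem tSum_mem_fix (H : Subgroup Γ) (v : V) : tSum V H v ∈ fixSub V H := by
  classical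
  haveI := Fintype.ofFinite H
  intro h0 hh0
  rw [tSum_apply, Finset.smul_sum]
  refine (Equiv.sum_comp (Equiv.mulLeft (⟨h0, hh0⟩ : H)) (fun h : H => (h : Γ) • v)).symm ▸ ?_
  refine Finset.sum_congr rfl fun h _ => ?_
  simp [mul_smul]

theorem tSum_of_mem_fix {H : Subgroup Γ} {v : V} (hv : v ∈ fixSub V H) :
    tSum V H v = Nat.card H • v := by
  classical
  haveI := Fintype.ofFinite H
  rw [tSum_apply, Nat.card_eq_fintype_card, ← Finset.card_univ, ← Finset.sum_const]
  exact Finset.sum_congr rfl fun h _ => hv h h.2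

theorem smul_tSum_comm {H : Subgroup Γ} {g : Γ} (hg : ∀ h ∈ H, g * h = h * g) (v : V) :
    g • tSum V H v = tSum V H (g • v) := by
  classical
  haveI := Fintype.ofFinite H
  rw [tSum_apply, tSum_apply, Finset.smul_sum]
  refine Finset.sum_congr rfl fun h _ => ?_
  rw [← mul_smul, ← mul_smul, hg h h.2]

theorem card_conj (g : ConjAct Γ) (H : Subgroup Γ) : Nat.card (g • H : Subgroup Γ) = Nat.card H :=
  (Nat.card_congr (Subgroup.equivSMul g H).toEquiv).symm

theorem tSum_conj (g : Γ) (H : Subgroup Γ) (v : V) :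
    tSum V (ConjAct.toConjAct g • H) (g • v) = g • tSum V H v := by
  classical
  haveI := Fintype.ofFinite H
  haveI := Fintype.ofFinite (ConjAct.toConjAct g • H : Subgroup Γ)
  rw [tSum_apply, tSum_apply, Finset.smul_sum]
  refine (Equiv.sum_comp (Subgroup.equivSMul (ConjAct.toConjAct g) H).toEquiv _).symm.trans ?_
  refine Finset.sum_congr rfl fun h _ => ?_
  simp [ConjAct.toConjAct_smul, mul_smul]

/-- inverse modulo `r` -/
noncomputable def cof (r n : ℕ) : ℕ := ((n : ZMod r)⁻¹).val

theorem smul_of_modEq {r : ℕ} (hVr : ∀ v : V, r • v = 0) {a b : ℕ} (h : a ≡ b [MOD r]) (v : V) :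
    a • v = b • v := by
  have key : ∀ n : ℕ, n • v = (n % r) • v := by
    intro n
    conv_lhs => rw [← Nat.mod_add_div n r]
    rw [add_smul, mul_smul, hVr, add_zero]
  rw [key a, key b, h]

theorem mul_cof_smul {r : ℕ} [Fact r.Prime] (hVr : ∀ v : V, r • v = 0) {n : ℕ} (hn : n.Coprime r)
    (v : V) : (n * cof r n) • v = v := by
  have h : ((n * cof r n : ℕ) : ZMod r) = ((1 : ℕ) : ZMod r) := by
    push_cast
    simp only [cof, ZMod.natCast_val, ZMod.cast_id', id_eq]
    exact ZMod.coe_mul_inv_eq_one n hn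
  have := (ZMod.natCast_eq_natCast_iff _ _ _).1 h
  rw [smul_of_modEq hVr this, one_smul]

/-- the averaging projection onto the fixed points of `H` -/
noncomputable def avg (V : Type u) [AddCommGroup V] [DistribMulAction Γ V] (r : ℕ) (H : Subgroup Γ) :
    V →+ V := cof r (Nat.card H) • tSum V H

theorem avg_apply (r : ℕ) (H : Subgroup Γ) (v : V) : avg V r H v = cof r (Nat.card H) • tSum V H v := rfl

theorem avg_mem_fix (r : ℕ) (H : Subgroup Γ) (v : V) : avg V r H v ∈ fixSub V H := by
  rw [avg_apply]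
  exact nsmul_mem (tSum_mem_fix H v) _

theorem avg_of_mem_fix {r : ℕ} [Fact r.Prime] (hVr : ∀ v : V, r • v = 0) {H : Subgroup Γ}
    (hH : (Nat.card H).Coprime r) {v : V} (hv : v ∈ fixSub V H) : avg V r H v = v := by
  rw [avg_apply, tSum_of_mem_fix hv, ← mul_smul, mul_comm]
  exact mul_cof_smul hVr hH v

theorem avg_conj (r : ℕ) (g : Γ) (H : Subgroup Γ) (v : V) :
    avg V r (ConjAct.toConjAct g • H) (g • v) = g • avg V r H v := by
  rw [avg_apply, avg_apply, tSum_conj, card_conj, smul_comm]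

/-- maximal subgroups of `E` -/
def IsHyp (E H : Subgroup Γ) : Prop := H < E ∧ ∀ H' : Subgroup Γ, H < H' → H' ≤ E → H' = E

theorem isHyp_conj {E H : Subgroup Γ} (hE : E.Normal) (h : IsHyp E H) (g : ConjAct Γ) :
    IsHyp E (g • H) := by
  have hgE : ∀ g : ConjAct Γ, g • E = E := fun g => hE.conjAct g
  constructor
  · rw [lt_iff_le_not_ge]
    have := h.1
    rw [lt_iff_le_not_ge] at this
    constructor
    · rw [Subgroup.pointwise_smul_subset_iff, hgE]
      exact this.1
    · rw [Subgroup.subset_pointwise_smul_iff, hgE]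
      exact this.2
  · intro H' h1 h2
    have h3 : H < g⁻¹ • H' := by
      rw [lt_iff_le_not_ge] at h1 ⊢
      constructor
      · rw [Subgroup.subset_pointwise_smul_iff, inv_inv]
        exact h1.1
      · rw [Subgroup.pointwise_smul_subset_iff, inv_inv]
        exact h1.2
    have h4 : g⁻¹ • H' ≤ E := by
      rw [Subgroup.pointwise_smul_subset_iff, inv_inv, hgE]
      exact h2
    have h5 := h.2 _ h3 h4
    have : H' = g • (g⁻¹ • H') := by simp
    rw [this, h5, hgE]

/-- the index set -/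
def HypJ (V : Type u) [AddCommGroup V] [DistribMulAction Γ V] (E : Subgroup Γ) : Type u :=
  {H : Subgroup Γ // IsHyp E H ∧ ∃ v : V, v ∈ fixSub V H ∧ v ≠ 0}

instance (E : Subgroup Γ) : Finite (HypJ V E) := by
  unfold HypJ
  infer_instance

/-- the conjugation action on the hyperplanes -/
noncomputable def hypAct (E : Subgroup Γ) (hE : E.Normal) : MulAction Γ (HypJ V E) where
  smul g j := ⟨ConjAct.toConjAct g • j.1, isHyp_conj hE j.2.1 _, by
    obtain ⟨v, hv, hv0⟩ := j.2.2
    refine ⟨g • v, ?_, fun h0 => hv0 ((smul_eq_zero_iff_eq g).1 h0)⟩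
    intro h hh
    obtain ⟨s, hs, rfl⟩ := Subgroup.mem_smul_pointwise_iff_exists _ _ _ |>.1 hh
    rw [ConjAct.toConjAct_smul, ← mul_smul, inv_mul_cancel_right, mul_smul, hv s hs]⟩
  one_smul j := Subtype.ext (by
    show ConjAct.toConjAct (1 : Γ) • j.1 = j.1
    simp)
  mul_smul a b j := Subtype.ext (by
    show ConjAct.toConjAct (a * b) • j.1 = ConjAct.toConjAct a • (ConjAct.toConjAct b • j.1)
    rw [map_mul, mul_smul])

/-- the line sum -/
noncomputable def lSum (p : ℕ) [Fact p.Prime] (l : Γ) (v : V) : V :=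
  ∑ i : ZMod p, l ^ i.val • v

theorem lSum_fix_self {p : ℕ} [Fact p.Prime] {l : Γ} (hl : l ^ p = 1) (v : V) :
    l • lSum p l v = lSum p l v := by
  unfold lSum
  rw [Finset.smul_sum]
  rw [← Equiv.sum_comp (Equiv.addRight (1 : ZMod p)) (fun i : ZMod p => l ^ i.val • v)]
  refine Finset.sum_congr rfl fun i _ => ?_
  rw [← mul_smul, ← pow_succ']
  have : l ^ (i.val + 1) = l ^ (i + 1).val := by
    rw [ZMod.val_add, ZMod.val_one_eq_one_mod, Nat.add_mod_mod]
    exact pow_eq_pow_mod _ hl
  rw [this]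
  rfl

theorem lSum_comm {p : ℕ} [Fact p.Prime] {l u : Γ} (hu : u * l = l * u) {v : V} (huv : u • v = v) :
    u • lSum p l v = lSum p l v := by
  unfold lSum
  rw [Finset.smul_sum]
  refine Finset.sum_congr rfl fun i _ => ?_
  rw [← mul_smul, ((Commute.pow_right hu _ : Commute u (l ^ i.val))).eq, mul_smul, huv]

theorem pow_val_mul {p : ℕ} [Fact p.Prime] {b : Γ} (hb : b ^ p = 1) (i j : ZMod p) :
    b ^ (i.val * j.val) = b ^ (i * j).val := by
  rw [ZMod.val_mul]
  exact pow_eq_pow_mod _ hb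

theorem three_sum {p : ℕ} [Fact p.Prime] {A : Type*} [AddCommGroup A] (F : ZMod p → ZMod p → A) :
    ∑ j, ∑ i, F i (i * j) + ∑ i, F 0 i = p • F 0 0 + ∑ i, ∑ j, F i j := by
  classical
  rw [Finset.sum_comm]
  have h0 : ∑ j : ZMod p, F 0 (0 * j) = p • F 0 0 := by
    simp [Finset.sum_const, Finset.card_univ, ZMod.card]
  have hne : ∀ i : ZMod p, i ≠ 0 → ∑ j, F i (i * j) = ∑ j, F i j := by
    intro i hi
    exact Equiv.sum_comp (Equiv.mulLeft₀ i hi) (fun j => F i j)
  rw [← Finset.add_sum_erase _ _ (Finset.mem_univ (0 : ZMod p)),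
    ← Finset.add_sum_erase (a := (0 : ZMod p)) Finset.univ (fun i => ∑ j, F i j) (Finset.mem_univ _), h0]
  have : ∑ i ∈ Finset.univ.erase (0 : ZMod p), ∑ j, F i (i * j) =
      ∑ i ∈ Finset.univ.erase (0 : ZMod p), ∑ j, F i j :=
    Finset.sum_congr rfl fun i hi => hne i (Finset.ne_of_mem_erase hi)
  rw [this]
  abel

theorem line_identity {p : ℕ} [Fact p.Prime] {a b : Γ} (hab : a * b = b * a) (hb : b ^ p = 1)
    (v : V) :
    ∑ j : ZMod p, lSum p (a * b ^ j.val) v + lSum p b v = p • v + lSum p a (lSum p b v) := by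
  have := three_sum (fun i j : ZMod p => a ^ i.val • b ^ j.val • v)
  simp only [ZMod.val_zero, pow_zero, one_smul] at this
  have h1 : ∀ j : ZMod p, lSum p (a * b ^ j.val) v = ∑ i : ZMod p, a ^ i.val • b ^ (i * j).val • v := by
    intro j
    unfold lSum
    refine Finset.sum_congr rfl fun i _ => ?_
    have hc : Commute a (b ^ j.val) := Commute.pow_right hab _
    rw [hc.mul_pow, ← pow_mul, mul_comm j.val, pow_val_mul hb, mul_smul]
  simp only [h1]
  have h2 : lSum p b v = ∑ x : ZMod p, b ^ x.val • v := rfl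
  rw [h2, this]
  congr 1
  unfold lSum
  refine Finset.sum_congr rfl fun i _ => ?_
  rw [Finset.smul_sum]

theorem gen_of_lines {p : ℕ} [Fact p.Prime] (E : Subgroup Γ)
    (hEab : ∀ a ∈ E, ∀ b ∈ E, a * b = b * a) (hEexp : ∀ a ∈ E, a ^ p = 1)
    (A : AddSubgroup V) (hdiv : ∀ v, p • v ∈ A → v ∈ A)
    (hbase : ∀ H, IsHyp E H → fixSub V H ≤ A) (hE : fixSub V E ≤ A) :
    ∀ U : Subgroup Γ, U ≤ E → fixSub V U ≤ A := by
  intro U
  induction U using WellFoundedGT.induction with
  | ind U IH =>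
    intro hUE
    by_cases hUeq : U = E
    · rw [hUeq]; exact hE
    by_cases hm : IsHyp E U
    · exact hbase U hm
    have hUlt : U < E := lt_of_le_of_ne hUE hUeq
    have hex : ∃ U' : Subgroup Γ, U < U' ∧ U' ≤ E ∧ U' ≠ E := by
      by_contra hcon
      push Not at hcon
      exact hm ⟨hUlt, fun H' h1 h2 => hcon H' h1 h2⟩
    obtain ⟨U', hUU', hU'E, hU'ne⟩ := hex
    obtain ⟨a, haU', haU⟩ := SetLike.exists_of_lt hUU'
    obtain ⟨b, hbE, hbU'⟩ := SetLike.exists_of_lt (lt_of_le_of_ne hU'E hU'ne)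
    have haE : a ∈ E := hU'E haU'
    have key : ∀ l ∈ E, l ∉ U → ∀ w ∈ fixSub V U, lSum p l w ∈ A := by
      intro l hlE hlU w hw
      have h1 : U < U ⊔ Subgroup.zpowers l := by
        refine lt_of_le_of_ne le_sup_left fun h => hlU ?_
        rw [h]
        exact Subgroup.mem_sup_right (Subgroup.mem_zpowers l)
      have h2 : U ⊔ Subgroup.zpowers l ≤ E := sup_le hUE ((Subgroup.zpowers_le).2 hlE)
      refine IH _ h1 h2 ?_
      refine fixSub_sup ?_ ?_
      · intro u hu
        exact lSum_comm (hEab u (hUE hu) l hlE) (hw u hu)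
      · intro z hz
        have : Subgroup.zpowers l ≤ MulAction.stabilizer Γ (lSum p l w) :=
          (Subgroup.zpowers_le).2 (lSum_fix_self (hEexp l hlE) w)
        exact this hz
    intro v hv
    apply hdiv
    have hid := line_identity (p := p) (hEab a haE b hbE) (hEexp b hbE) v
    have hnot : ∀ j : ZMod p, a * b ^ j.val ∉ U := by
      intro j hj
      by_cases hj0 : j = 0
      · subst hj0
        simp at hj
        exact haU hj
      · apply hbU'
        have h3 : b ^ j.val ∈ U' := by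
          have := U'.mul_mem (U'.inv_mem haU') (hUU'.le hj)
          simpa using this
        have h4 : (b ^ j.val) ^ (j⁻¹).val = b := by
          rw [← pow_mul, pow_val_mul (hEexp b hbE), mul_inv_cancel₀ hj0, ZMod.val_one, pow_one]
        rw [← h4]
        exact U'.pow_mem h3 _
    have hmem : ∀ j : ZMod p, a * b ^ j.val ∈ E := fun j => E.mul_mem haE (E.pow_mem hbE _)
    have hbU : b ∉ U := fun h => hbU' (hUU'.le h)
    have h5 : p • v = ∑ j : ZMod p, lSum p (a * b ^ j.val) v + lSum p b v - lSum p a (lSum p b v) := by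
      rw [hid]; abel
    rw [h5]
    refine A.sub_mem (A.add_mem (A.sum_mem fun j _ => key _ (hmem j) (hnot j) v hv) (key b hbE hbU v hv)) ?_
    refine key a haE haU _ ?_
    intro u hu
    exact lSum_comm (hEab u (hUE hu) b hbE) (hv u hu)

theorem fixSub_normal_bot {V : Type u} [AddCommGroup V] [DistribMulAction Γ V]
    (hirr : ∀ W : AddSubgroup V, (∀ g : Γ, ∀ v ∈ W, g • v ∈ W) → W = ⊥ ∨ W = ⊤)
    (hfaith : ∀ g : Γ, (∀ v : V, g • v = v) → g = 1)
    (E : Subgroup Γ) (hEn : E.Normal) (hE : E ≠ ⊥) : fixSub V E = ⊥ := by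
  have hinv : ∀ g : Γ, ∀ v ∈ fixSub V E, g • v ∈ fixSub V E := by
    intro g v hv e he
    have h1 : g⁻¹ * e * g ∈ E := by
      simpa using hEn.conj_mem e he g⁻¹
    have h2 := hv _ h1
    calc e • g • v = g • ((g⁻¹ * e * g) • v) := by simp [mul_smul]
      _ = g • v := by rw [h2]
  rcases hirr (fixSub V E) hinv with h | h
  · exact h
  · exfalso
    apply hE
    rw [eq_bot_iff]
    intro e he
    rw [Subgroup.mem_bot]
    refine hfaith e fun v => ?_
    have : v ∈ fixSub V E := by rw [h]; trivial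
    exact this e he

theorem coprime_of_le {p r : ℕ} [Fact p.Prime] [Fact r.Prime] (hrp : r ≠ p) {E H : Subgroup Γ}
    (hEexp : ∀ a ∈ E, a ^ p = 1) (hH : H ≤ E) : (Nat.card H).Coprime r := by
  have hP : IsPGroup p H := fun h => ⟨1, by
    apply Subtype.ext
    simpa using hEexp h (hH h.2)⟩
  obtain ⟨n, hn⟩ := IsPGroup.iff_card.1 hP
  rw [hn]
  exact Nat.Coprime.pow_left n ((Nat.coprime_primes Fact.out Fact.out).2 hrp.symm)

theorem hyp_sup {E H K : Subgroup Γ} (hH : IsHyp E H) (hK : IsHyp E K) (hne : H ≠ K) : H ⊔ K = E := by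
  by_cases hle : K ≤ H
  · exfalso
    have h1 : K < H := lt_of_le_of_ne hle hne.symm
    have h2 := hK.2 H h1 hH.1.le
    exact hH.1.ne h2
  · refine hH.2 _ ?_ (sup_le hH.1.le hK.1.le)
    refine lt_of_le_of_ne le_sup_left fun h => hle ?_
    rw [h]
    exact le_sup_right

theorem avg_orth {E H K : Subgroup Γ} (hEab : ∀ a ∈ E, ∀ b ∈ E, a * b = b * a)
    (hCE : fixSub V E = ⊥) (r : ℕ)
    (hH : IsHyp E H) (hK : IsHyp E K) (hne : H ≠ K) (v : V) : avg V r H (avg V r K v) = 0 := by
  have h1 := avg_mem_fix r H (avg V r K v)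
  have h2 : avg V r H (avg V r K v) ∈ fixSub V K := by
    intro k hk
    have hw : k • avg V r K v = avg V r K v := avg_mem_fix r K v k hk
    rw [avg_apply, smul_comm, smul_tSum_comm (fun h hh => hEab k (hK.1.le hk) h (hH.1.le hh)), hw]
  have h3 := fixSub_sup h1 h2
  rw [hyp_sup hH hK hne, hCE] at h3
  simpa using h3

end basics

end Hyper

open Hyper in
theorem exists_hyperplane_system {Γ V : Type u} [Group Γ] [Finite Γ] [AddCommGroup V] [Finite V]
    [DistribMulAction Γ V] {p r : ℕ} [Fact p.Prime] [Fact r.Prime] (hrp : r ≠ p)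
    (hVr : ∀ v : V, r • v = 0)
    (hirr : ∀ W : AddSubgroup V, (∀ g : Γ, ∀ v ∈ W, g • v ∈ W) → W = ⊥ ∨ W = ⊤)
    (hfaith : ∀ g : Γ, (∀ v : V, g • v = v) → g = 1)
    (E : Subgroup Γ) (hEn : E.Normal) (hEab : ∀ a ∈ E, ∀ b ∈ E, a * b = b * a)
    (hEexp : ∀ a ∈ E, a ^ p = 1) (hEcard : p ^ 2 ≤ Nat.card E) :
    ∃ (J : Type u) (_ : Fintype J) (_ : MulAction Γ J) (π : J → V →+ V),
      (∀ v, ∑ j, π j v = v) ∧ (∀ j k, j ≠ k → ∀ v, π j (π k v) = 0) ∧
      (∀ (g : Γ) j v, π (g • j) (g • v) = g • π j v) ∧ (∀ j, ∃ v, π j v ≠ 0) ∧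
      1 < Fintype.card J := by
  classical
  have hp1 : 1 < p := (Fact.out : p.Prime).one_lt
  have hEbot : E ≠ ⊥ := by
    rintro rfl
    have : Nat.card (⊥ : Subgroup Γ) = 1 := Subgroup.card_bot
    rw [this] at hEcard
    have : 1 < p ^ 2 := Nat.one_lt_pow (by norm_num) hp1
    omega
  have hCE : fixSub V E = ⊥ := fixSub_normal_bot hirr hfaith E hEn hEbot
  haveI : Fintype (HypJ V E) := Fintype.ofFinite _
  let π : HypJ V E → V →+ V := fun j => avg V r j.1
  letI act : MulAction Γ (HypJ V E) := hypAct E hEn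
  have horth : ∀ j k : HypJ V E, j ≠ k → ∀ v, π j (π k v) = 0 := fun j k hjk v =>
    avg_orth hEab hCE r j.2.1 k.2.1 (fun h => hjk (Subtype.ext h)) v
  have hsum : ∀ v, ∑ j, π j v = v := by
    let A : AddSubgroup V := AddMonoidHom.eqLocus (∑ j, π j) (AddMonoidHom.id V)
    have hA : ∀ v, v ∈ A ↔ ∑ j, π j v = v := by
      intro v
      show (∑ j, π j) v = v ↔ _
      rw [AddMonoidHom.finset_sum_apply]
    have hgen := gen_of_lines (p := p) E hEab hEexp A ?_ ?_ ?_ ⊥ bot_le
    · intro v
      rw [← hA]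
      refine hgen ?_
      intro h hh
      rw [Subgroup.mem_bot] at hh
      rw [hh, one_smul]
    · intro v hv
      have hc : p.Coprime r := (Nat.coprime_primes Fact.out Fact.out).2 hrp.symm
      have := mul_cof_smul hVr hc v
      rw [mul_comm, mul_smul] at this
      rw [← this]
      exact nsmul_mem hv _
    · intro H hH v hv
      by_cases hv0 : v = 0
      · rw [hv0]; exact zero_mem _
      rw [hA]
      let j0 : HypJ V E := ⟨H, hH, v, hv, hv0⟩
      have hj0 : π j0 v = v := avg_of_mem_fix hVr (coprime_of_le hrp hEexp hH.1.le) hv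
      rw [Finset.sum_eq_single j0]
      · exact hj0
      · intro j _ hj
        rw [← hj0]
        exact horth j j0 hj v
      · intro h
        exact absurd (Finset.mem_univ _) h
    · rw [hCE]
      exact bot_le
  refine ⟨HypJ V E, inferInstance, act, π, hsum, horth, ?_, ?_, ?_⟩
  · intro g j v
    exact avg_conj r g j.1 v
  · intro j
    obtain ⟨v, hv, hv0⟩ := j.2.2
    refine ⟨v, ?_⟩
    have : π j v = v := avg_of_mem_fix hVr (coprime_of_le hrp hEexp j.2.1.1.le) hv
    rw [this]
    exact hv0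
  · by_contra hcon
    have hsub : Subsingleton (HypJ V E) := Fintype.card_le_one_iff_subsingleton.1 (not_lt.1 hcon)
    rcases isEmpty_or_nonempty (HypJ V E) with he | ⟨⟨j0⟩⟩
    · apply hEbot
      rw [eq_bot_iff]
      intro h _
      rw [Subgroup.mem_bot]
      refine hfaith h fun v => ?_
      have : v = 0 := by
        rw [← hsum v]
        simp
      rw [this, smul_zero]
    · have hall : ∀ v, π j0 v = v := by
        intro v
        conv_rhs => rw [← hsum v]
        rw [Finset.sum_eq_single j0]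
        · intro k _ hk
          exact absurd (Subsingleton.elim k j0) hk
        · intro h
          exact absurd (Finset.mem_univ _) h
      have hbot : j0.1 = ⊥ := by
        rw [eq_bot_iff]
        intro h hh
        rw [Subgroup.mem_bot]
        refine hfaith h fun v => ?_
        rw [← hall v]
        exact avg_mem_fix r j0.1 v h hh
      obtain ⟨a, ha1⟩ := (Subgroup.ne_bot_iff_exists_ne_one.1 hEbot)
      have hz : Subgroup.zpowers (a : Γ) = E := by
        refine j0.2.1.2 _ ?_ ((Subgroup.zpowers_le).2 a.2)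
        rw [hbot, bot_lt_iff_ne_bot]
        intro h
        exact ha1 (Subtype.ext (Subgroup.zpowers_eq_bot.1 h))
      have hord : orderOf (a : Γ) ∣ p := orderOf_dvd_of_pow_eq_one (hEexp a a.2)
      have hcard : Nat.card E = orderOf (a : Γ) := by
        have h := Nat.card_zpowers (a : Γ)
        rwa [hz] at h
      have hle : Nat.card E ≤ p := by
        rw [hcard]
        exact Nat.le_of_dvd (by omega) hord
      have : p < p ^ 2 := by nlinarith
      omega

end Cfsg.Agent.Lib.S4997
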