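import Cfsg.Agent.Lib.S4997.Defs

/-! S4997 piece D3: counting `p`-torsion outside a cyclic center, and a numeric inequality. -/

namespace Cfsg.Agent.Lib.S4997
universe u

namespace CountAux

lemma key_pow {s : ℕ} (hs : 3 ≤ s) : 27 * s ^ 6 ≤ 8 * 16 ^ s := by
  induction s, hs using Nat.le_induction with
  | base => norm_num
  | succ s hs ih =>
    have h1 : 729 * (s + 1) ^ 6 ≤ 4096 * s ^ 6 := by
      have h2 : 3 * (s + 1) ≤ 4 * s := by omega
      have h3 := Nat.pow_le_pow_left h2 6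
      rw [mul_pow, mul_pow] at h3
      norm_num at h3
      linarith
    have h4 : 27 * (s + 1) ^ 6 ≤ 16 * (27 * s ^ 6) := by
      generalize (s + 1) ^ 6 = a at h1 ⊢
      generalize s ^ 6 = b at h1 ⊢
      omega
    calc 27 * (s + 1) ^ 6 ≤ 16 * (27 * s ^ 6) := h4
      _ ≤ 16 * (8 * 16 ^ s) := Nat.mul_le_mul_left _ ih
      _ = 8 * 16 ^ (s + 1) := by ring

lemma star {p s : ℕ} (hp : 3 ≤ p) (hs : p ≤ s) :
    (3 * s ^ 2) ^ p ≤ 2 ^ p * (p + 1) ^ (s * (p - 1)) := by
  have hs3 : 3 ≤ s := hp.trans hs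
  -- cube both sides
  have h1 : ((3 * s ^ 2) ^ p) ^ 3 ≤ (2 ^ p * (p + 1) ^ (s * (p - 1))) ^ 3 := by
    have e1 : ((3 * s ^ 2) ^ p) ^ 3 = (27 * s ^ 6) ^ p := by
      rw [← pow_mul, mul_comm p 3, pow_mul]
      congr 1
      ring
    have e2 : (2 ^ p * (p + 1) ^ (s * (p - 1))) ^ 3 = (8 : ℕ) ^ p * (p + 1) ^ (3 * (s * (p - 1))) := by
      rw [mul_pow, ← pow_mul, ← pow_mul, mul_comm p 3, pow_mul 2 3 p, mul_comm (s * (p - 1)) 3]
      norm_num
    rw [e1, e2]
    have h2 : (4 : ℕ) ^ (3 * (s * (p - 1))) ≤ (p + 1) ^ (3 * (s * (p - 1))) :=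
      Nat.pow_le_pow_left (by omega) _
    have h3 : (16 : ℕ) ^ (s * p) ≤ 4 ^ (3 * (s * (p - 1))) := by
      have e : (16 : ℕ) = 4 ^ 2 := by norm_num
      rw [e, ← pow_mul]
      apply Nat.pow_le_pow_right (by norm_num)
      obtain ⟨q, rfl⟩ : ∃ q, p = q + 3 := ⟨p - 3, by omega⟩
      have : q + 3 - 1 = q + 2 := by omega
      rw [this]
      nlinarith [Nat.zero_le (s * q), Nat.zero_le s]
    calc (27 * s ^ 6) ^ p ≤ (8 * 16 ^ s) ^ p := Nat.pow_le_pow_left (key_pow hs3) _
      _ = 8 ^ p * 16 ^ (s * p) := by rw [mul_pow, ← pow_mul]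
      _ ≤ 8 ^ p * (p + 1) ^ (3 * (s * (p - 1))) :=
        Nat.mul_le_mul_left _ (h3.trans h2)
  exact (Nat.pow_le_pow_iff_left (by norm_num)).1 h1

end CountAux

/-- numeric inequality used in the count -/
theorem numeric_ineq {p s : ℕ} (hp : 3 ≤ p) (hs : p ≤ s) :
    (p * s ^ 2) ^ p ≤ (p - 1) ^ p * (p + 1) ^ (s * (p - 1)) := by
  have h1 : 2 * (p * s ^ 2) ≤ (p - 1) * (3 * s ^ 2) := by
    have h2 : 2 * p ≤ 3 * (p - 1) := by omega
    have := Nat.mul_le_mul_right (s ^ 2) h2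
    calc 2 * (p * s ^ 2) = 2 * p * s ^ 2 := by ring
      _ ≤ 3 * (p - 1) * s ^ 2 := this
      _ = (p - 1) * (3 * s ^ 2) := by ring
  have h3 : (2 * (p * s ^ 2)) ^ p ≤ ((p - 1) * (3 * s ^ 2)) ^ p := Nat.pow_le_pow_left h1 _
  rw [mul_pow 2, mul_pow (p - 1)] at h3
  have h4 := CountAux.star hp hs
  have h5 : 2 ^ p * (p * s ^ 2) ^ p ≤ 2 ^ p * ((p - 1) ^ p * (p + 1) ^ (s * (p - 1))) := by
    calc 2 ^ p * (p * s ^ 2) ^ p ≤ (p - 1) ^ p * (3 * s ^ 2) ^ p := h3
      _ ≤ (p - 1) ^ p * (2 ^ p * (p + 1) ^ (s * (p - 1))) := Nat.mul_le_mul_left _ h4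
      _ = 2 ^ p * ((p - 1) ^ p * (p + 1) ^ (s * (p - 1))) := by ring
  exact Nat.le_of_mul_le_mul_left h5 (by positivity)

/-- The number of `p`-torsion elements outside a cyclic center. -/
theorem card_pow_eq_one_notMem_center_le {X : Type u} [Group X] [Finite X] {p : ℕ} [Fact p.Prime]
    (hcyc : IsCyclic (Subgroup.center X)) :
    Nat.card {y : X // y ^ p = 1 ∧ y ∉ Subgroup.center X} ≤ p * ((Subgroup.center X).index - 1) := by
  classical
  haveI := Fintype.ofFinite X
  have hp : 0 < p := (Fact.out : p.Prime).pos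
  haveI : (Subgroup.center X).Normal := inferInstance
  let Q := X ⧸ Subgroup.center X
  haveI : Fintype Q := Fintype.ofFinite Q
  let f : X → Q := fun y => (y : Q)
  let s : Finset X := Finset.univ.filter fun y => y ^ p = 1 ∧ y ∉ Subgroup.center X
  have hcard : Nat.card {y : X // y ^ p = 1 ∧ y ∉ Subgroup.center X} = s.card := by
    rw [Nat.card_eq_fintype_card, Fintype.card_subtype]
  rw [hcard]
  have hfib : ∀ a ∈ s.image f, (s.filter fun x => f x = a).card ≤ p := by
    intro a ha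
    obtain ⟨y₀, hy₀, rfl⟩ := Finset.mem_image.1 ha
    have hy₀' := (Finset.mem_filter.1 hy₀).2
    let Z := ↥(Subgroup.center X)
    haveI : Fintype Z := Fintype.ofFinite Z
    have hZ := IsCyclic.card_pow_eq_one_le (α := Z) hp
    refine le_trans ?_ hZ
    -- inject the fibre into `p`-torsion of the center
    have hmem : ∀ y ∈ s.filter (fun x => f x = f y₀), y₀⁻¹ * y ∈ Subgroup.center X := by
      intro y hy
      have h1 := (Finset.mem_filter.1 hy).2
      exact QuotientGroup.eq.1 h1.symm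
    let g : X → Z := fun y => if h : y₀⁻¹ * y ∈ Subgroup.center X then ⟨y₀⁻¹ * y, h⟩ else 1
    apply Finset.card_le_card_of_injOn g
    · intro y hy
      have hy' : y ∈ s.filter (fun x => f x = f y₀) := hy
      have h1 := hmem y hy'
      have hyp := (Finset.mem_filter.1 (Finset.mem_filter.1 hy').1).2.1
      simp only [g, dif_pos h1]
      refine Finset.mem_coe.2 (Finset.mem_filter.2 ⟨Finset.mem_univ _, ?_⟩)
      apply Subtype.ext
      have hc : Commute y₀⁻¹ y := by
        have hcen := Subgroup.mem_center_iff.1 h1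
        have h2 := hcen y₀
        have : y₀ * (y₀⁻¹ * y) = y₀⁻¹ * y * y₀ := h2
        rw [mul_inv_cancel_left] at this
        -- `y = y₀⁻¹ y y₀`, so `y₀ y = y y₀`
        have h3 : y₀ * y = y * y₀ := by
          calc y₀ * y = y₀ * (y₀⁻¹ * y * y₀) := by rw [← this]
            _ = y * y₀ := by group
        have h4 : y₀⁻¹ * y = y * y₀⁻¹ := by
          rw [inv_mul_eq_iff_eq_mul, ← mul_assoc, h3, mul_assoc, mul_inv_cancel, mul_one]
        exact h4
      change (y₀⁻¹ * y) ^ p = 1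
      rw [hc.mul_pow, hyp, inv_pow, hy₀'.1, inv_one, mul_one]
    · intro y hy y' hy' h
      have hy1 : y ∈ s.filter (fun x => f x = f y₀) := hy
      have hy2 : y' ∈ s.filter (fun x => f x = f y₀) := hy'
      simp only [g, dif_pos (hmem y hy1), dif_pos (hmem y' hy2)] at h
      have h5 := congrArg Subtype.val h
      simpa using h5
  have hle := Finset.card_le_mul_card_image (f := f) s p hfib
  have himg : (s.image f).card ≤ (Subgroup.center X).index - 1 := by
    have hsub : s.image f ⊆ Finset.univ.erase (1 : Q) := by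
      intro a ha
      obtain ⟨y, hy, rfl⟩ := Finset.mem_image.1 ha
      refine Finset.mem_erase.2 ⟨?_, Finset.mem_univ _⟩
      intro h1
      exact (Finset.mem_filter.1 hy).2.2 ((QuotientGroup.eq_one_iff y).1 h1)
    have h6 := Finset.card_le_card hsub
    rw [Finset.card_erase_of_mem (Finset.mem_univ _), Finset.card_univ] at h6
    rw [Subgroup.index_eq_card, Nat.card_eq_fintype_card]
    exact h6
  exact hle.trans (Nat.mul_le_mul_left _ himg)

end Cfsg.Agent.Lib.S4997
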