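import Mathlib
import Cfsg.Agent.Lib.S4997.Defs

/-! Piece D2 of S4997: `|V| ≥ (p+1)^n` and `|X : Z(X)| ≤ n²`. -/

set_option autoImplicit false
set_option linter.style.haveILetI false

namespace Cfsg.Agent.Lib.S4997

universe u

namespace FieldBound

section Lin

variable {X : Type u} [Group X] [Finite X] {L W : Type u} [Field L] [Finite L] [AddCommGroup W] [Finite W]
  [Module L W] [Nontrivial W]

/-- The linear algebra. -/
theorem index_le_of_scalars (ρ : X →* Module.End L W) (c : X → L)
    (hc : ∀ z ∈ Subgroup.center X, ρ z = c z • (1 : Module.End L W))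
    (hinj : ∀ z ∈ Subgroup.center X, ρ z = 1 → z = 1)
    (hcl : ∀ a b : X, (a * b * a⁻¹ * b⁻¹) ∈ Subgroup.center X) :
    (Subgroup.center X).index ≤ Module.finrank L W ^ 2 := by
  classical
  haveI : Module.Finite L W := Module.Finite.of_finite
  letI : Fintype (X ⧸ Subgroup.center X) := Fintype.ofFinite _
  let T : X ⧸ Subgroup.center X → Module.End L W := fun q => ρ q.out
  have hρu : ∀ u w : X, ρ u * ρ w * ρ u⁻¹ = c (u * w * u⁻¹ * w⁻¹) • ρ w := by
    intro u w
    have h1 : ρ u * ρ w * ρ u⁻¹ = ρ (u * w * u⁻¹) := by rw [map_mul, map_mul]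
    have h2 : ρ (u * w * u⁻¹) = ρ ((u * w * u⁻¹ * w⁻¹) * w) := by
      congr 1; group
    rw [h1, h2, map_mul, hc _ (hcl u w), smul_mul_assoc, one_mul]
  have hli : LinearIndependent L T := by
    rw [linearIndependent_iff']
    intro s
    induction s using Finset.strongInduction with
    | H s ih =>
      intro g hg i hi
      by_cases hex : ∃ i₀ ∈ s, i₀ ≠ i
      · obtain ⟨i₀, hi₀, hne⟩ := hex
        set w₀ : X := i₀.out with hw₀
        set w : X := i.out with hw
        set y : X := w₀⁻¹ * w with hy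
        have hyZ : y ∉ Subgroup.center X := by
          intro hmem
          apply hne
          have h1 : (QuotientGroup.mk w₀ : X ⧸ Subgroup.center X) = QuotientGroup.mk w :=
            QuotientGroup.eq.2 hmem
          simpa [hw₀, hw, QuotientGroup.out_eq'] using h1
        obtain ⟨u, hu⟩ : ∃ u : X, u * y * u⁻¹ * y⁻¹ ≠ 1 := by
          by_contra hcon
          push Not at hcon
          apply hyZ
          rw [Subgroup.mem_center_iff]
          intro u
          have h1 := hcon u
          have h2 : u * y * u⁻¹ = y := mul_inv_eq_one.mp h1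
          calc u * y = u * y * u⁻¹ * u := by group
            _ = y * u := by rw [h2]
        -- conjugate the relation
        have hR1 : ∑ j ∈ s, (g j * c (u * (j.out) * u⁻¹ * (j.out)⁻¹)) • T j = 0 := by
          have h0 : ρ u * (∑ j ∈ s, g j • T j) * ρ u⁻¹ = 0 := by rw [hg]; simp
          rw [Finset.mul_sum, Finset.sum_mul] at h0
          rw [← h0]
          refine Finset.sum_congr rfl fun j _ => ?_
          rw [mul_smul_comm, smul_mul_assoc, mul_smul]
          show g j • c _ • ρ j.out = g j • (ρ u * ρ j.out * ρ u⁻¹)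
          rw [hρu]
        have hR2 : ∑ j ∈ s, (g j * c (u * w₀ * u⁻¹ * w₀⁻¹)) • T j = 0 := by
          have h0 : c (u * w₀ * u⁻¹ * w₀⁻¹) • (∑ j ∈ s, g j • T j) = 0 := by rw [hg, smul_zero]
          rw [Finset.smul_sum] at h0
          rw [← h0]
          refine Finset.sum_congr rfl fun j _ => ?_
          rw [smul_smul, mul_comm]
        let g' : X ⧸ Subgroup.center X → L := fun j =>
          g j * (c (u * (j.out) * u⁻¹ * (j.out)⁻¹) - c (u * w₀ * u⁻¹ * w₀⁻¹))
        have hR3 : ∑ j ∈ s, g' j • T j = 0 := by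
          have h1 := congrArg₂ (· - ·) hR1 hR2
          simp only [sub_zero] at h1
          rw [← Finset.sum_sub_distrib] at h1
          rw [← h1]
          refine Finset.sum_congr rfl fun j _ => ?_
          rw [← sub_smul, ← mul_sub]
        have hR4 : ∑ j ∈ s.erase i₀, g' j • T j = 0 := by
          rw [← hR3]
          apply Finset.sum_erase
          show g' i₀ • T i₀ = 0
          have : g' i₀ = 0 := by
            show g i₀ * (c (u * (i₀.out) * u⁻¹ * (i₀.out)⁻¹) - c (u * w₀ * u⁻¹ * w₀⁻¹)) = 0
            rw [← hw₀]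
            simp
          rw [this, zero_smul]
        have hssub : s.erase i₀ ⊂ s := Finset.erase_ssubset hi₀
        have hi' : i ∈ s.erase i₀ := Finset.mem_erase.2 ⟨hne.symm, hi⟩
        have h5 := ih _ hssub g' hR4 i hi'
        have h6 : g i * (c (u * w * u⁻¹ * w⁻¹) - c (u * w₀ * u⁻¹ * w₀⁻¹)) = 0 := h5
        rcases mul_eq_zero.1 h6 with h7 | h7
        · exact h7
        · exfalso
          apply hu
          -- the commutators agree
          set z₀ : X := u * w₀ * u⁻¹ * w₀⁻¹ with hz₀
          set z₁ : X := u * w * u⁻¹ * w⁻¹ with hz₁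
          set z₂ : X := u * y * u⁻¹ * y⁻¹ with hz₂
          have hz₀c : z₀ ∈ Subgroup.center X := hcl _ _
          have hz₁c : z₁ ∈ Subgroup.center X := hcl _ _
          have hz₂c : z₂ ∈ Subgroup.center X := hcl _ _
          have hww : w = w₀ * y := by rw [hy]; group
          have hz : z₁ = z₀ * z₂ := by
            have h8 : z₁ = z₀ * (w₀ * z₂ * w₀⁻¹) := by
              rw [hz₁, hz₀, hz₂, hww]; group
            rw [h8, (Subgroup.mem_center_iff.1 hz₂c w₀)]
            group
          have hρ : ρ z₁ = ρ z₀ := by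
            rw [hc _ hz₁c, hc _ hz₀c, sub_eq_zero.1 h7]
          rw [hz, map_mul] at hρ
          have h9 : ρ z₂ = 1 := by
            have h10 : ρ z₀ * ρ z₂ = ρ z₀ * 1 := by rw [hρ, mul_one]
            have h11 : ρ z₀⁻¹ * (ρ z₀ * ρ z₂) = ρ z₀⁻¹ * (ρ z₀ * 1) := by rw [h10]
            simpa [← mul_assoc, ← map_mul] using h11
          exact hinj _ hz₂c h9
      · push Not at hex
        have hs : s = {i} := by
          ext j
          simp only [Finset.mem_singleton]
          exact ⟨fun hj => hex j hj, fun hj => hj ▸ hi⟩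
        rw [hs, Finset.sum_singleton] at hg
        by_contra hgi
        have h1 : T i = 0 := (smul_eq_zero.1 hg).resolve_left hgi
        have h2 : ρ (i.out) = 0 := h1
        have h3 : ρ (i.out) * ρ (i.out)⁻¹ = 1 := by rw [← map_mul]; simp
        rw [h2, zero_mul] at h3
        exact zero_ne_one h3
  have h1 := hli.fintype_card_le_finrank
  rw [Module.finrank_linearMap] at h1
  rw [Subgroup.index, sq]
  simpa [Nat.card_eq_fintype_card] using h1

/-- The field has more than `p` elements. -/
theorem card_field_ge {p : ℕ} [hp : Fact p.Prime] {ζ : L} (h1 : ζ ≠ 1) (hζ : ζ ^ p = 1) :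
    p + 1 ≤ Nat.card L := by
  classical
  letI : Fintype L := Fintype.ofFinite _
  have hne : ζ ≠ 0 := by
    rintro rfl
    rw [zero_pow hp.out.ne_zero] at hζ
    exact zero_ne_one hζ
  let u : Lˣ := Units.mk0 ζ hne
  have hu : u ≠ 1 := by
    intro h
    apply h1
    have := congrArg Units.val h
    simpa [u] using this
  have hup : u ^ p = 1 := by
    ext
    simpa [u] using hζ
  have hord : orderOf u = p := orderOf_eq_prime hup hu
  have hdvd : p ∣ Fintype.card Lˣ := hord ▸ orderOf_dvd_card
  rw [Fintype.card_units] at hdvd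
  have hcard : 1 < Fintype.card L := Fintype.one_lt_card
  have hpos : 0 < Fintype.card L - 1 := by omega
  have := Nat.le_of_dvd hpos hdvd
  rw [Nat.card_eq_fintype_card]
  omega

/-- All of the linear algebra together. -/
theorem bound_of_scalars {p : ℕ} [hp : Fact p.Prime] (ρ : X →* Module.End L W) (c : X → L)
    (hc : ∀ z ∈ Subgroup.center X, ρ z = c z • (1 : Module.End L W))
    (hinj : ∀ z ∈ Subgroup.center X, ρ z = 1 → z = 1)
    (hcl : ∀ a b : X, (a * b * a⁻¹ * b⁻¹) ∈ Subgroup.center X)
    {z₀ : X} (hz₀ : z₀ ∈ Subgroup.center X) (hz₁ : z₀ ≠ 1) (hzp : z₀ ^ p = 1) :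
    ∃ n : ℕ, (Subgroup.center X).index ≤ n ^ 2 ∧ (p + 1) ^ n ≤ Nat.card W := by
  refine ⟨Module.finrank L W, index_le_of_scalars ρ c hc hinj hcl, ?_⟩
  have h10 : (1 : Module.End L W) ≠ 0 := by
    intro h
    obtain ⟨v, hv⟩ := exists_ne (0 : W)
    exact hv (by simpa using LinearMap.congr_fun h v)
  have hζ1 : c z₀ ≠ 1 := by
    intro h
    apply hz₁
    apply hinj _ hz₀
    rw [hc _ hz₀, h, one_smul]
  have hζp : c z₀ ^ p = 1 := by
    have h1 : (c z₀ ^ p) • (1 : Module.End L W) = (1 : L) • (1 : Module.End L W) := by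
      have h2 : (c z₀ • (1 : Module.End L W)) ^ p = c z₀ ^ p • (1 : Module.End L W) := by
        rw [smul_pow, one_pow]
      rw [← h2, ← hc _ hz₀, ← map_pow, hzp, map_one, one_smul]
    exact smul_left_injective L h10 h1
  have h1 := card_field_ge (p := p) hζ1 hζp
  rw [Module.natCard_eq_pow_finrank (K := L) (V := W)]
  exact Nat.pow_le_pow_left h1 _

end Lin

section Main

variable {X W : Type u} [Group X] [Finite X] [AddCommGroup W] [Finite W] [DistribMulAction X W] [Nontrivial W]

/-- Irreducible modules. -/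
theorem irr_bound {p : ℕ} [hp : Fact p.Prime]
    (hirr : ∀ U : AddSubgroup W, (∀ g : X, ∀ v ∈ U, g • v ∈ U) → U = ⊥ ∨ U = ⊤)
    (hcl : ∀ a b : X, (a * b * a⁻¹ * b⁻¹) ∈ Subgroup.center X)
    (hinj : ∀ z ∈ Subgroup.center X, (∀ v : W, z • v = v) → z = 1)
    {z₀ : X} (hz₀ : z₀ ∈ Subgroup.center X) (hz₁ : z₀ ≠ 1) (hzp : z₀ ^ p = 1) :
    ∃ n : ℕ, (Subgroup.center X).index ≤ n ^ 2 ∧ (p + 1) ^ n ≤ Nat.card W := by
  classical
  let A : X →* AddMonoid.End W := DistribMulAction.toAddMonoidEnd X W
  let E : Subring (AddMonoid.End W) := Subring.centralizer (Set.range A)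
  have hEmem : ∀ f : AddMonoid.End W, f ∈ E ↔ ∀ (x : X) (v : W), f (x • v) = x • f v := by
    intro f
    constructor
    · intro hf x v
      have h1 := Subring.mem_centralizer_iff.1 hf (A x) ⟨x, rfl⟩
      have h2 := DFunLike.congr_fun h1 v
      exact h2.symm
    · intro hf
      refine Subring.mem_centralizer_iff.2 ?_
      rintro _ ⟨x, rfl⟩
      ext v
      exact (hf x v).symm
  have hinjE : ∀ f : E, f ≠ 0 → Function.Injective ((f : AddMonoid.End W) : W → W) := by
    intro f hf
    let U : AddSubgroup W := AddMonoidHom.ker (f : AddMonoid.End W)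
    have hU : ∀ g : X, ∀ v ∈ U, g • v ∈ U := by
      intro g v hv
      show (f : AddMonoid.End W) (g • v) = 0
      rw [(hEmem _).1 f.2, show (f : AddMonoid.End W) v = 0 from hv, smul_zero]
    rcases hirr U hU with h | h
    · intro a b hab
      have h1 : a - b ∈ U := by
        show (f : AddMonoid.End W) (a - b) = 0
        rw [map_sub, hab, sub_self]
      rw [h, AddSubgroup.mem_bot] at h1
      exact sub_eq_zero.1 h1
    · exfalso
      apply hf
      apply Subtype.ext
      ext v
      have : v ∈ U := by rw [h]; exact AddSubgroup.mem_top v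
      exact this
  haveI hnzd : NoZeroDivisors E := ⟨by
    intro a b hab
    by_cases ha : a = 0
    · exact Or.inl ha
    · right
      apply Subtype.ext
      ext v
      have h1 : (a : AddMonoid.End W) ((b : AddMonoid.End W) v) = 0 := by
        have := congrArg (fun f : E => (f : AddMonoid.End W) v) hab
        simpa using this
      have h2 := hinjE a ha (h1.trans (map_zero _).symm)
      simpa using h2⟩
  haveI hnt : Nontrivial E := by
    refine ⟨⟨1, 0, ?_⟩⟩
    intro h
    obtain ⟨v, hv⟩ := exists_ne (0 : W)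
    have := congrArg (fun f : E => (f : AddMonoid.End W) v) h
    exact hv (by simpa using this)
  haveI hdom : IsDomain E := NoZeroDivisors.to_isDomain E
  haveI hfin : Finite E := by
    haveI : Finite (AddMonoid.End W) :=
      Finite.of_injective (fun f : AddMonoid.End W => (f : W → W)) DFunLike.coe_injective
    exact Subtype.finite
  have hE : IsField E := Finite.isDomain_to_isField E
  letI hF : Field E := hE.toField
  letI hM : Module E W := Module.compHom W (E.subtype : E →+* AddMonoid.End W)
  have hsmul : ∀ (c : E) (v : W), c • v = (c : AddMonoid.End W) v := fun _ _ => rfl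
  let ρ : X →* Module.End E W :=
    { toFun := fun x =>
        { toFun := fun v => x • v
          map_add' := smul_add x
          map_smul' := fun c v => by
            show x • (c • v) = c • (x • v)
            rw [hsmul, hsmul, (hEmem _).1 c.2] }
      map_one' := by ext v; exact one_smul X v
      map_mul' := fun a b => by ext v; exact mul_smul a b v }
  have hρ : ∀ (x : X) (v : W), ρ x v = x • v := fun _ _ => rfl
  have hcen : ∀ z ∈ Subgroup.center X, A z ∈ E := by
    intro z hz
    rw [hEmem]
    intro x v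
    show z • x • v = x • z • v
    rw [← mul_smul, ← mul_smul, (Subgroup.mem_center_iff.1 hz x)]
  let c : X → E := fun z => if h : z ∈ Subgroup.center X then ⟨A z, hcen z h⟩ else 0
  have hc : ∀ z ∈ Subgroup.center X, ρ z = c z • (1 : Module.End E W) := by
    intro z hz
    ext v
    show z • v = c z • v
    simp only [c, dif_pos hz]
    rfl
  have hinj' : ∀ z ∈ Subgroup.center X, ρ z = 1 → z = 1 := by
    intro z hz h
    apply hinj z hz
    intro v
    exact LinearMap.congr_fun h v
  exact bound_of_scalars ρ c hc hinj' hcl hz₀ hz₁ hzp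

end Main

end FieldBound

open FieldBound in
/-- **Piece D2**: `|V| ≥ (p+1)^n`, `|X : Z(X)| ≤ n²`. -/
theorem exists_card_ge_of_index {X V : Type u} [Group X] [Finite X] [AddCommGroup V] [Finite V]
    [DistribMulAction X V] {p r : ℕ} [Fact p.Prime] [Fact r.Prime] (hrp : r ≠ p)
    (hVr : ∀ v : V, r • v = 0) [Nontrivial V]
    (hX : IsPGroup p X)
    (hcl : ∀ a b : X, (a * b * a⁻¹ * b⁻¹) ∈ Subgroup.center X)
    (hfpf : ∀ z ∈ Subgroup.center X, z ≠ 1 → z ^ p = 1 → ∀ v : V, z • v = v → v = 0)
    (hZ : ∃ z ∈ Subgroup.center X, z ≠ 1 ∧ z ^ p = 1) :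
    ∃ n : ℕ, (Subgroup.center X).index ≤ n ^ 2 ∧ (p + 1) ^ n ≤ Nat.card V := by
  classical
  let S := {U : AddSubgroup V // U ≠ ⊥ ∧ ∀ g : X, ∀ v ∈ U, g • v ∈ U}
  haveI hSne : Nonempty S := ⟨⟨⊤, by
    obtain ⟨v, hv⟩ := exists_ne (0 : V)
    intro h
    have : v ∈ (⊤ : AddSubgroup V) := AddSubgroup.mem_top v
    rw [h, AddSubgroup.mem_bot] at this
    exact hv this, fun _ _ _ => AddSubgroup.mem_top _⟩⟩
  haveI hSf : Finite (AddSubgroup V) :=
    Finite.of_injective (fun U : AddSubgroup V => (U : Set V)) SetLike.coe_injective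
  obtain ⟨⟨W, hW0, hWi⟩, hmin⟩ := Finite.exists_min (fun U : S => Nat.card U.1)
  letI : DistribMulAction X W :=
    { smul := fun g v => ⟨g • (v : V), hWi g v v.2⟩
      one_smul := fun v => Subtype.ext (one_smul X (v : V))
      mul_smul := fun a b v => Subtype.ext (mul_smul a b (v : V))
      smul_zero := fun a => Subtype.ext (smul_zero a)
      smul_add := fun a u v => Subtype.ext (smul_add a (u : V) (v : V)) }
  have hsm : ∀ (g : X) (v : W), ((g • v : W) : V) = g • (v : V) := fun _ _ => rfl
  haveI hnt : Nontrivial W := (AddSubgroup.nontrivial_iff_ne_bot W).2 hW0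
  have hirr : ∀ U : AddSubgroup W, (∀ g : X, ∀ v ∈ U, g • v ∈ U) → U = ⊥ ∨ U = ⊤ := by
    intro U hU
    by_cases h0 : U = ⊥
    · exact Or.inl h0
    right
    let U' : AddSubgroup V := U.map W.subtype
    have hU'0 : U' ≠ ⊥ := by
      intro h
      apply h0
      rw [eq_bot_iff]
      intro u hu
      have h1 : (u : V) ∈ U' := ⟨u, hu, rfl⟩
      rw [h, AddSubgroup.mem_bot] at h1
      exact (AddSubgroup.mem_bot).2 (Subtype.ext h1)
    have hU'i : ∀ g : X, ∀ v ∈ U', g • v ∈ U' := by
      rintro g _ ⟨u, hu, rfl⟩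
      exact ⟨g • u, hU g u hu, rfl⟩
    have hle : U' ≤ W := by
      rintro _ ⟨u, -, rfl⟩
      exact u.2
    have h1 := hmin ⟨U', hU'0, hU'i⟩
    have h2 : U' = W := AddSubgroup.eq_of_le_of_card_ge hle h1
    rw [eq_top_iff]
    intro u _
    have h3 : (u : V) ∈ U' := by rw [h2]; exact u.2
    obtain ⟨u', hu', hu''⟩ := h3
    have : u' = u := Subtype.ext hu''
    rwa [← this]
  have hinj : ∀ z ∈ Subgroup.center X, (∀ v : W, z • v = v) → z = 1 := by
    intro z hz h
    by_contra hz1
    have hex : ∃ k, z ^ (p ^ k) = 1 := by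
      obtain ⟨k, hk⟩ := hX z
      exact ⟨k, hk⟩
    have hk0 : Nat.find hex ≠ 0 := by
      intro h0
      have := Nat.find_spec hex
      rw [h0] at this
      simp at this
      exact hz1 this
    obtain ⟨k, hk⟩ := Nat.exists_eq_succ_of_ne_zero hk0
    have hne : z ^ (p ^ k) ≠ 1 := Nat.find_min hex (by omega)
    have hpow : (z ^ (p ^ k)) ^ p = 1 := by
      rw [← pow_mul, ← pow_succ]
      have := Nat.find_spec hex
      rwa [hk] at this
    have hcen : z ^ (p ^ k) ∈ Subgroup.center X := Subgroup.pow_mem _ hz _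
    obtain ⟨v, hv⟩ := exists_ne (0 : W)
    have hfix : ∀ m : ℕ, z ^ m • (v : V) = v := by
      intro m
      induction m with
      | zero => simp
      | succ m ih =>
        rw [pow_succ, mul_smul]
        have := congrArg Subtype.val (h v)
        rw [hsm] at this
        rw [this, ih]
    have := hfpf _ hcen hne hpow (v : V) (hfix _)
    exact hv (Subtype.ext this)
  obtain ⟨z₀, hz₀, hz₁, hzp⟩ := hZ
  obtain ⟨n, h1, h2⟩ := irr_bound (X := X) (W := W) hirr hcl hinj hz₀ hz₁ hzp
  refine ⟨n, h1, h2.trans ?_⟩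
  exact AddSubgroup.card_le_card_addGroup W

end Cfsg.Agent.Lib.S4997
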