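import Cfsg.Agent.Lib.S4997.Defs

/-!
# S4997, piece D1: `|C_V(y)|^p ≤ |V|`
-/

namespace Cfsg.Agent.Lib.S4997
universe u
namespace FixBound

variable {X V : Type u} [Group X] [AddCommGroup V] [DistribMulAction X V]

/-- Eigenvectors for the distinct `z`-powers are independent. -/
theorem eig_indep {p : ℕ} {y z : X} (hzc : ∀ a : X, a * z = z * a)
    (hfpf : ∀ i : ℕ, 0 < i → i < p → ∀ v : V, z ^ i • v = v → v = 0)
    (S : Finset (Fin p)) (v : Fin p → V)
    (hv : ∀ i ∈ S, y • v i = z ^ (i : ℕ) • v i)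
    (h0 : ∑ i ∈ S, v i = 0) : ∀ i ∈ S, v i = 0 := by
  classical
  induction S using Finset.induction_on generalizing v with
  | empty => simp
  | insert j S hj ih =>
    have hyz : ∀ (k : ℕ) (a : V), y • (z ^ k • a) = z ^ k • (y • a) := by
      intro k a
      rw [← mul_smul, ← mul_smul]
      congr 1
      have : Commute y (z ^ k) := Commute.pow_right (hzc y) k
      exact this.eq
    have hzz : ∀ (k l : ℕ) (a : V), z ^ k • (z ^ l • a) = z ^ l • (z ^ k • a) := by
      intro k l a
      rw [← mul_smul, ← mul_smul, ← pow_add, ← pow_add, add_comm]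
    rw [Finset.sum_insert hj] at h0
    -- the difference
    have h1 : y • (v j + ∑ i ∈ S, v i) = 0 := by rw [h0, smul_zero]
    have h2 : z ^ (j : ℕ) • (v j + ∑ i ∈ S, v i) = 0 := by rw [h0, smul_zero]
    rw [smul_add, Finset.smul_sum, hv j (Finset.mem_insert_self _ _)] at h1
    rw [smul_add, Finset.smul_sum] at h2
    have h3 : ∑ i ∈ S, (z ^ (i : ℕ) • v i - z ^ (j : ℕ) • v i) = 0 := by
      rw [Finset.sum_sub_distrib]
      have : ∑ i ∈ S, z ^ (i : ℕ) • v i = ∑ i ∈ S, y • v i :=
        Finset.sum_congr rfl fun i hi => (hv i (Finset.mem_insert_of_mem hi)).symm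
      rw [this]
      have e1 := eq_neg_of_add_eq_zero_right h1
      have e2 := eq_neg_of_add_eq_zero_right h2
      rw [e1, e2, sub_self]
    have h4 := ih (fun i => z ^ (i : ℕ) • v i - z ^ (j : ℕ) • v i)
      (by
        intro i hi
        show y • (z ^ (i : ℕ) • v i - z ^ (j : ℕ) • v i) = z ^ (i : ℕ) • (z ^ (i : ℕ) • v i - z ^ (j : ℕ) • v i)
        rw [smul_sub, smul_sub, hyz, hyz, hv i (Finset.mem_insert_of_mem hi), hzz (j : ℕ) (i : ℕ)])
      h3
    have h5 : ∀ i ∈ S, v i = 0 := by
      intro i hi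
      have h6 : z ^ (i : ℕ) • v i = z ^ (j : ℕ) • v i := sub_eq_zero.1 (h4 i hi)
      have hne : (i : ℕ) ≠ (j : ℕ) := by
        intro h
        apply hj
        rwa [← Fin.ext h]
      rcases lt_or_gt_of_ne hne with hlt | hlt
      · have : z ^ ((j : ℕ) - (i : ℕ)) • v i = v i := by
          have e : (j : ℕ) = (i : ℕ) + ((j : ℕ) - (i : ℕ)) := by omega
          rw [e, pow_add, mul_smul] at h6
          exact (smul_left_cancel _ h6).symm
        exact hfpf _ (by omega) (by have := j.2; omega) _ this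
      · have : z ^ ((i : ℕ) - (j : ℕ)) • v i = v i := by
          have e : (i : ℕ) = (j : ℕ) + ((i : ℕ) - (j : ℕ)) := by omega
          rw [e, pow_add, mul_smul] at h6
          exact smul_left_cancel _ h6
        exact hfpf _ (by omega) (by have := i.2; omega) _ this
    have h7 : v j = 0 := by
      rw [Finset.sum_eq_zero h5, add_zero] at h0
      exact h0
    intro i hi
    rcases Finset.mem_insert.1 hi with rfl | hi
    · exact h7
    · exact h5 i hi

theorem y_mul_pow {y w z : X} (hz : y * w * y⁻¹ * w⁻¹ = z) (hzc : ∀ a : X, a * z = z * a) (i : ℕ) :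
    y * w ^ i = z ^ i * w ^ i * y := by
  have hyw : y * w = z * w * y := by
    rw [← hz]; group
  induction i with
  | zero => simp
  | succ i ih =>
    have hc : Commute (w ^ i) z := Commute.pow_left (hzc w) i
    calc y * w ^ (i + 1) = (y * w ^ i) * w := by rw [pow_succ, mul_assoc]
      _ = z ^ i * w ^ i * (y * w) := by rw [ih]; simp only [mul_assoc]
      _ = z ^ i * w ^ i * (z * w * y) := by rw [hyw]
      _ = z ^ i * (w ^ i * z) * (w * y) := by simp only [mul_assoc]
      _ = z ^ i * (z * w ^ i) * (w * y) := by rw [hc.eq]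
      _ = z ^ (i + 1) * w ^ (i + 1) * y := by
          rw [pow_succ z, pow_succ w]; simp only [mul_assoc]

end FixBound

open FixBound in
/-- `|C_V(y)|^p ≤ |V|`. -/
theorem card_fixAdd_pow_le {X V : Type u} [Group X] [AddCommGroup V] [Finite V] [DistribMulAction X V]
    {p r : ℕ} [Fact p.Prime] [Fact r.Prime] (hrp : r ≠ p) (hVr : ∀ v : V, r • v = 0)
    {y w z : X} (hz : y * w * y⁻¹ * w⁻¹ = z) (hzc : ∀ a : X, a * z = z * a) (hz1 : z ^ p = 1)
    (hfpf : ∀ i : ℕ, 0 < i → i < p → ∀ v : V, z ^ i • v = v → v = 0) :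
    Nat.card (fixAdd y : AddSubgroup V) ^ p ≤ Nat.card V := by
  classical
  let Φ : (Fin p → (fixAdd y : AddSubgroup V)) → V :=
    fun u => ∑ i : Fin p, w ^ (i : ℕ) • ((u i : V))
  have hinj : Function.Injective Φ := by
    intro u u' h
    have hsum : ∑ i : Fin p, w ^ (i : ℕ) • (((u i : V)) - ((u' i : V))) = 0 := by
      simp only [smul_sub, Finset.sum_sub_distrib]
      exact sub_eq_zero.2 h
    have hfix : ∀ i : Fin p, y • (((u i : V)) - ((u' i : V))) = ((u i : V)) - ((u' i : V)) := by
      intro i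
      rw [smul_sub, (mem_fixAdd.1 (u i).2), (mem_fixAdd.1 (u' i).2)]
    have key := eig_indep (y := y) (z := z) hzc hfpf Finset.univ
      (fun i => w ^ (i : ℕ) • (((u i : V)) - ((u' i : V))))
      (by
        intro i _
        show y • (w ^ (i : ℕ) • (((u i : V)) - ((u' i : V)))) =
          z ^ (i : ℕ) • (w ^ (i : ℕ) • (((u i : V)) - ((u' i : V))))
        rw [← mul_smul, y_mul_pow hz hzc, mul_smul, hfix, mul_smul])
      hsum
    funext i
    have h0 := key i (Finset.mem_univ i)
    have h1 : ((u i : V)) - ((u' i : V)) = 0 := by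
      have := congrArg (fun a => (w ^ (i : ℕ))⁻¹ • a) h0
      simpa using this
    exact Subtype.ext (sub_eq_zero.1 h1)
  have hcard := Nat.card_le_card_of_injective Φ hinj
  rwa [Nat.card_fun, Nat.card_fin] at hcard

end Cfsg.Agent.Lib.S4997
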