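import Cfsg.Agent.Lib.S4997.Defs

/-! S4997 piece B: imprimitive step. -/

namespace Cfsg.Agent.Lib.S4997
universe u

section Aux
variable {Γ V : Type u} [Group Γ] [AddCommGroup V] [DistribMulAction Γ V]
  {J : Type u} [Fintype J] [MulAction Γ J] {π : J → V →+ V}

theorem imprim_idem (hsum : ∀ v, ∑ j, π j v = v) (horth : ∀ j k, j ≠ k → ∀ v, π j (π k v) = 0)
    (j : J) (v : V) : π j (π j v) = π j v := by
  classical
  have h : π j v = π j (∑ k, π k v) := by rw [hsum]
  rw [map_sum, Finset.sum_eq_single j (fun k _ hk => horth j k hk.symm v) (by simp)] at h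
  exact h.symm

theorem imprim_trans
    (hirr : ∀ W : AddSubgroup V, (∀ g : Γ, ∀ v ∈ W, g • v ∈ W) → W = ⊥ ∨ W = ⊤)
    (horth : ∀ j k, j ≠ k → ∀ v, π j (π k v) = 0)
    (hequi : ∀ (g : Γ) j v, π (g • j) (g • v) = g • π j v)
    (hne : ∀ j, ∃ v, π j v ≠ 0) (j0 k : J) : ∃ g : Γ, g • j0 = k := by
  classical
  by_contra hk
  push Not at hk
  let W : AddSubgroup V := AddSubgroup.closure {z | ∃ (g : Γ) (w : V), z = g • π j0 w}
  have hWinv : ∀ g : Γ, ∀ v ∈ W, g • v ∈ W := by
    intro g v hv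
    induction hv using AddSubgroup.closure_induction with
    | mem z hz =>
      obtain ⟨h, w, rfl⟩ := hz
      exact AddSubgroup.subset_closure ⟨g * h, w, by rw [mul_smul]⟩
    | zero => simp
    | add a b _ _ ha hb => rw [smul_add]; exact W.add_mem ha hb
    | neg a _ ha => rw [smul_neg]; exact W.neg_mem ha
  have hW0 : W ≠ ⊥ := by
    obtain ⟨w, hw⟩ := hne j0
    intro h
    have h1 : π j0 w ∈ W := AddSubgroup.subset_closure ⟨1, w, by simp⟩
    rw [h] at h1
    exact hw (by simpa using h1)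
  have hWtop : W = ⊤ := (hirr W hWinv).resolve_left hW0
  have hvan : ∀ z ∈ W, π k z = 0 := by
    intro z hz
    induction hz using AddSubgroup.closure_induction with
    | mem z hz =>
      obtain ⟨h, w, rfl⟩ := hz
      rw [← hequi h j0 w]
      exact horth k (h • j0) (Ne.symm (hk h)) _
    | zero => simp
    | add a b _ _ ha hb => rw [map_add, ha, hb, add_zero]
    | neg a _ ha => rw [map_neg, ha, neg_zero]
  obtain ⟨v, hv⟩ := hne k
  exact hv (hvan v (by rw [hWtop]; trivial))

theorem imprim_smul_mem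
    (hequi : ∀ (g : Γ) j v, π (g • j) (g • v) = g • π j v) (j1 : J)
    (s : MulAction.stabilizer Γ j1) {v : V} (hv : v ∈ (π j1).range) :
    (s : Γ) • v ∈ (π j1).range := by
  obtain ⟨w, rfl⟩ := hv
  refine ⟨(s : Γ) • w, ?_⟩
  have h := hequi (s : Γ) j1 w
  rwa [MulAction.mem_stabilizer_iff.mp s.2] at h

/-- The action of the stabilizer of `j1` on the range of `π j1`. -/
@[reducible] def imprimAct
    (hequi : ∀ (g : Γ) j v, π (g • j) (g • v) = g • π j v) (j1 : J) :
    DistribMulAction (MulAction.stabilizer Γ j1) ((π j1).range) where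
  smul s v := ⟨(s : Γ) • (v : V), imprim_smul_mem hequi j1 s v.2⟩
  one_smul v := Subtype.ext (one_smul Γ (v : V))
  mul_smul a b v := Subtype.ext (mul_smul (a : Γ) (b : Γ) (v : V))
  smul_zero a := Subtype.ext (smul_zero (a : Γ))
  smul_add a b c := Subtype.ext (smul_add (a : Γ) (b : V) (c : V))

theorem imprim_irr
    (hirr : ∀ W : AddSubgroup V, (∀ g : Γ, ∀ v ∈ W, g • v ∈ W) → W = ⊥ ∨ W = ⊤)
    (hsum : ∀ v, ∑ j, π j v = v)
    (horth : ∀ j k, j ≠ k → ∀ v, π j (π k v) = 0)
    (hequi : ∀ (g : Γ) j v, π (g • j) (g • v) = g • π j v) (j1 : J)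
    (W' : AddSubgroup ((π j1).range))
    (hW' : ∀ s : MulAction.stabilizer Γ j1, ∀ v ∈ W',
      (⟨(s : Γ) • (v : V), imprim_smul_mem hequi j1 s v.2⟩ : (π j1).range) ∈ W') :
    W' = ⊥ ∨ W' = ⊤ := by
  classical
  by_cases hbot : W' = ⊥
  · exact Or.inl hbot
  right
  have hidem := imprim_idem hsum horth
  let W : AddSubgroup V := AddSubgroup.closure {z | ∃ (g : Γ) (w : (π j1).range), w ∈ W' ∧ z = g • (w : V)}
  have hWinv : ∀ g : Γ, ∀ v ∈ W, g • v ∈ W := by
    intro g v hv
    induction hv using AddSubgroup.closure_induction with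
    | mem z hz =>
      obtain ⟨h, w, hw, rfl⟩ := hz
      exact AddSubgroup.subset_closure ⟨g * h, w, hw, by rw [mul_smul]⟩
    | zero => simp
    | add a b _ _ ha hb => rw [smul_add]; exact W.add_mem ha hb
    | neg a _ ha => rw [smul_neg]; exact W.neg_mem ha
  have hW0 : W ≠ ⊥ := by
    obtain ⟨w, hw0⟩ := AddSubgroup.ne_bot_iff_exists_ne_zero.mp hbot
    intro h
    have h1 : ((w : (π j1).range) : V) ∈ W := AddSubgroup.subset_closure ⟨1, w, w.2, by simp⟩
    rw [h] at h1
    apply hw0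
    apply Subtype.ext
    apply Subtype.ext
    simpa using h1
  have hWtop : W = ⊤ := (hirr W hWinv).resolve_left hW0
  have hproj : ∀ z ∈ W, ∃ w ∈ W', (w : V) = π j1 z := by
    intro z hz
    induction hz using AddSubgroup.closure_induction with
    | mem z hz =>
      obtain ⟨g, w, hw, rfl⟩ := hz
      by_cases hg : g⁻¹ • j1 = j1
      · have hgs : g⁻¹ ∈ MulAction.stabilizer Γ j1 := MulAction.mem_stabilizer_iff.mpr hg
        have hgs' : g ∈ MulAction.stabilizer Γ j1 := by simpa using hgs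
        refine ⟨_, hW' ⟨g, hgs'⟩ w hw, ?_⟩
        obtain ⟨w0, hw0⟩ := w.2
        have h := hequi g j1 w
        rw [MulAction.mem_stabilizer_iff.mp hgs'] at h
        rw [h]
        show g • (w : V) = g • π j1 (w : V)
        rw [← hw0, hidem]
      · refine ⟨0, W'.zero_mem, ?_⟩
        have h := hequi g (g⁻¹ • j1) w
        rw [smul_inv_smul] at h
        rw [h]
        obtain ⟨w0, hw0⟩ := w.2
        rw [← hw0, horth _ _ hg, smul_zero]
        rfl
    | zero => exact ⟨0, W'.zero_mem, by simp⟩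
    | add a b _ _ ha hb =>
      obtain ⟨w1, h1, e1⟩ := ha
      obtain ⟨w2, h2, e2⟩ := hb
      exact ⟨w1 + w2, W'.add_mem h1 h2, by simp [e1, e2]⟩
    | neg a _ ha =>
      obtain ⟨w1, h1, e1⟩ := ha
      exact ⟨-w1, W'.neg_mem h1, by simp [e1]⟩
  rw [eq_top_iff]
  intro u _
  obtain ⟨w, hw, he⟩ := hproj (u : V) (by rw [hWtop]; trivial)
  have hu : (u : V) = π j1 (u : V) := by
    obtain ⟨w0, hw0⟩ := u.2
    rw [← hw0, hidem]
  have : w = u := Subtype.ext (he.trans hu.symm)
  rwa [← this]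

end Aux

theorem imprimitive_step_aux {Γ V : Type u} [Group Γ] [Finite Γ] [AddCommGroup V] [Finite V]
    [DistribMulAction Γ V] {p r : ℕ} [Fact p.Prime] [Fact r.Prime]
    (hVr : ∀ v : V, r • v = 0)
    (hirr : ∀ W : AddSubgroup V, (∀ g : Γ, ∀ v ∈ W, g • v ∈ W) → W = ⊥ ∨ W = ⊤)
    (hfaith : ∀ g : Γ, (∀ v : V, g • v = v) → g = 1)
    (IH : LemmaGBelow.{u} p r (Nat.card V))
    {J : Type u} [Fintype J] [MulAction Γ J] (π : J → V →+ V)
    (hsum : ∀ v, ∑ j, π j v = v)
    (horth : ∀ j k, j ≠ k → ∀ v, π j (π k v) = 0)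
    (hequi : ∀ (g : Γ) j v, π (g • j) (g • v) = g • π j v)
    (hne : ∀ j, ∃ v, π j v ≠ 0)
    (hJ : 1 < Fintype.card J)
    (R : Subgroup Γ) (hRn : R.Normal) (hR : IsPGroup p R) {x : Γ} (hx : x ∈ R) (hx1 : x ≠ 1)
    (hP : ∃ Δ : Set J, ∀ g : R, (∀ a : J, g • a ∈ Δ ↔ a ∈ Δ) → ∀ a : J, g • a = a) :
    ∃ v : V, ∀ g : Γ, (g * x * g⁻¹) • v ≠ v := by
  classical
  have hidem := imprim_idem hsum horth
  by_cases hxK : ∀ j : J, x • j = j
  · -- `x` acts trivially on `J`
    obtain ⟨v0, hv0⟩ : ∃ v0 : V, x • v0 ≠ v0 := by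
      by_contra h
      push Not at h
      exact hx1 (hfaith x h)
    obtain ⟨j1, hj1⟩ : ∃ j1, x • π j1 v0 ≠ π j1 v0 := by
      by_contra h
      push Not at h
      apply hv0
      calc x • v0 = x • ∑ j, π j v0 := by rw [hsum]
        _ = ∑ j, x • π j v0 := Finset.smul_sum
        _ = ∑ j, π j v0 := Finset.sum_congr rfl (fun j _ => h j)
        _ = v0 := hsum v0
    have hcard : Nat.card (π j1).range < Nat.card V := by
      obtain ⟨j2, hj2⟩ := Fintype.exists_ne_of_one_lt_card hJ j1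
      obtain ⟨v2, hv2⟩ := hne j2
      refine lt_of_le_of_ne (AddSubgroup.card_le_card_addGroup _) (fun he => ?_)
      have htop := AddSubgroup.eq_top_of_card_eq _ he
      have hm : π j2 v2 ∈ (π j1).range := by rw [htop]; trivial
      obtain ⟨w, hw⟩ := hm
      apply hv2
      rw [← hidem j2 v2, ← hw, horth j2 j1 hj2]
    letI inst : DistribMulAction (MulAction.stabilizer Γ j1) ((π j1).range) := imprimAct hequi j1
    obtain ⟨v1, hv1⟩ := IH (MulAction.stabilizer Γ j1) ((π j1).range) hcard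
      (fun v => Subtype.ext (by simpa using hVr (v : V)))
      (fun W hW => imprim_irr hirr hsum horth hequi j1 W hW)
      (R.subgroupOf (MulAction.stabilizer Γ j1)) (hRn.subgroupOf _)
      (by
        intro a ha
        obtain ⟨k, hk⟩ := (hR ⟨(a : Γ), ha⟩)
        refine ⟨k, fun v => ?_⟩
        have hk' : a ^ (p ^ k) = 1 := by
          apply Subtype.ext
          have := congrArg Subtype.val hk
          simpa using this
        rw [hk', one_smul])
      ⟨x, MulAction.mem_stabilizer_iff.mpr (hxK j1)⟩ (by exact hx)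
      ⟨⟨π j1 v0, v0, rfl⟩, fun h => hj1 (congrArg Subtype.val h)⟩
    have htrans := imprim_trans hirr horth hequi hne
    choose h hh using htrans j1
    have hv1m : π j1 (v1 : V) = v1 := by
      obtain ⟨w0, hw0⟩ := v1.2
      rw [← hw0, hidem]
    have hπh : ∀ k, π k (h k • (v1 : V)) = h k • (v1 : V) := by
      intro k
      have h1 := hequi (h k) j1 v1
      rw [hh k, hv1m] at h1
      exact h1
    have hπh' : ∀ j k, j ≠ k → π j (h k • (v1 : V)) = 0 := by
      intro j k hjk
      rw [← hπh k, horth j k hjk]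
    refine ⟨∑ k, h k • (v1 : V), fun g hg => ?_⟩
    set y := g * x * g⁻¹ with hy
    set v := ∑ k, h k • (v1 : V) with hv
    have hπv : ∀ j, π j v = h j • (v1 : V) := by
      intro j
      rw [hv, map_sum, Finset.sum_eq_single j]
      · exact hπh j
      · exact fun k _ hk => hπh' j k hk.symm
      · simp
    let j := g • j1
    have hyj : y • j = j := by
      show (g * x * g⁻¹) • g • j1 = g • j1
      rw [mul_smul, mul_smul, inv_smul_smul, hxK]
    have h1 : y • (h j • (v1 : V)) = h j • (v1 : V) := by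
      rw [← hπv j]
      have h2 := hequi y j v
      rw [hg, hyj] at h2
      exact h2.symm
    have hs : (h j)⁻¹ * g ∈ MulAction.stabilizer Γ j1 := by
      rw [MulAction.mem_stabilizer_iff, mul_smul, inv_smul_eq_iff]
      exact (hh j).symm
    apply hv1 ⟨(h j)⁻¹ * g, hs⟩
    apply Subtype.ext
    show (((h j)⁻¹ * g) * x * ((h j)⁻¹ * g)⁻¹) • (v1 : V) = v1
    have e : ((h j)⁻¹ * g) * x * ((h j)⁻¹ * g)⁻¹ = (h j)⁻¹ * y * h j := by
      rw [hy]; group
    rw [e, mul_smul, mul_smul, h1, inv_smul_smul]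
  · -- `x` moves a point of `J`
    obtain ⟨Δ, hΔ⟩ := hP
    choose w hw using hne
    let v : V := ∑ j, if j ∈ Δ then π j (w j) else 0
    have hπv : ∀ k, π k v = if k ∈ Δ then π k (w k) else 0 := by
      intro k
      simp only [v, map_sum]
      rw [Finset.sum_eq_single k]
      · by_cases h : k ∈ Δ <;> simp [h, hidem]
      · intro j _ hj
        by_cases h : j ∈ Δ
        · simp [h, horth k j hj.symm]
        · simp [h]
      · simp
    have hne' : ∀ k, π k v ≠ 0 ↔ k ∈ Δ := by
      intro k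
      rw [hπv]
      by_cases h : k ∈ Δ <;> simp [h, hw]
    refine ⟨v, fun g hg => hxK ?_⟩
    set y := g * x * g⁻¹ with hy
    have hyR : y ∈ R := hRn.conj_mem x hx g
    have key : ∀ a, π (y • a) v = y • π a v := by
      intro a
      have := hequi y a v
      rwa [hg] at this
    have hst := hΔ ⟨y, hyR⟩ (by
      intro a
      show y • a ∈ Δ ↔ a ∈ Δ
      rw [← hne', ← hne', key, smul_ne_zero_iff_ne])
    intro j
    have h1 : g • (x • j) = g • j := by
      have h2 : y • (g • j) = g • j := hst (g • j)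
      rwa [hy, mul_smul, mul_smul, inv_smul_smul] at h2
    exact MulAction.injective g h1

end Cfsg.Agent.Lib.S4997
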