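import Cfsg.Agent.Lib.S4997.SetStab
import Cfsg.Agent.Lib.S4997.ImprimAux

/-! S4997 piece B (paper proof in tools/s4997/PLAN.md): the imprimitive step. -/

namespace Cfsg.Agent.Lib.S4997
universe u

theorem imprimitive_step {Γ V : Type u} [Group Γ] [Finite Γ] [AddCommGroup V] [Finite V]
    [DistribMulAction Γ V] {p r : ℕ} [Fact p.Prime] [Fact r.Prime] (hp : p ≠ 2)
    (hVr : ∀ v : V, r • v = 0)
    (hirr : ∀ W : AddSubgroup V, (∀ g : Γ, ∀ v ∈ W, g • v ∈ W) → W = ⊥ ∨ W = ⊤)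
    (hfaith : ∀ g : Γ, (∀ v : V, g • v = v) → g = 1)
    (IH : LemmaGBelow.{u} p r (Nat.card V))
    {J : Type u} [Fintype J] [MulAction Γ J] (π : J → V →+ V)
    (hsum : ∀ v, ∑ j, π j v = v)
    (horth : ∀ j k, j ≠ k → ∀ v, π j (π k v) = 0)
    (hequi : ∀ (g : Γ) j v, π (g • j) (g • v) = g • π j v)
    (hne : ∀ j, ∃ v, π j v ≠ 0)
    (hJ : 1 < Fintype.card J)
    (R : Subgroup Γ) (hRn : R.Normal) (hR : IsPGroup p R) {x : Γ} (hx : x ∈ R) (hx1 : x ≠ 1) :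
    ∃ v : V, ∀ g : Γ, (g * x * g⁻¹) • v ≠ v :=
  imprimitive_step_aux hVr hirr hfaith IH π hsum horth hequi hne hJ R hRn hR hx hx1
    (exists_set_trivial_stabilizer hp hR)

end Cfsg.Agent.Lib.S4997
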