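import Cfsg.Agent.Lib.S4997.RegularAux
import Cfsg.Agent.Lib.S4997.FieldBound

/-! Piece D5 of S4997: exact statement. -/

set_option autoImplicit false

namespace Cfsg.Agent.Lib.S4997
universe u

theorem exists_regular_vector {X V : Type u} [Group X] [Finite X] [AddCommGroup V] [Finite V]
    [DistribMulAction X V] {p r : ℕ} [Fact p.Prime] [Fact r.Prime] (hp : p ≠ 2) (hrp : r ≠ p)
    (hVr : ∀ v : V, r • v = 0) [Nontrivial V]
    (hX : IsPGroup p X)
    (hcl : ∀ a b : X, (a * b * a⁻¹ * b⁻¹) ∈ Subgroup.center X)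
    (hcyc : IsCyclic (Subgroup.center X))
    (hZ : ∃ z ∈ Subgroup.center X, z ≠ 1 ∧ z ^ p = 1)
    (hfpf : ∀ z ∈ Subgroup.center X, z ≠ 1 → z ^ p = 1 → ∀ v : V, z • v = v → v = 0) :
    ∃ v : V, ∀ y : X, y • v = v → y = 1 :=
  exists_regular_vector_aux hp hrp hVr hX hcl hcyc hZ hfpf
    (exists_card_ge_of_index hrp hVr hX hcl hfpf hZ)

end Cfsg.Agent.Lib.S4997
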