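import Mathlib
import Cfsg.Agent.S3762

/-!
# S4997, piece S: consequences of P. Hall's theorem

Groups of symplectic type of odd order have class at most two, and an abelian `p`-group whose
elementary abelian subgroups have order below `p²` is cyclic.
-/

namespace Cfsg.Agent.Lib.S4997

universe u

/-- Elements of `E ⊔ R` for commuting `E, R` are products. -/
theorem exists_mul_of_mem_sup_comm {X : Type u} [Group X] {E R : Subgroup X}
    (hc : ∀ e ∈ E, ∀ r ∈ R, e * r = r * e) {a : X} (ha : a ∈ E ⊔ R) :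
    ∃ e ∈ E, ∃ r ∈ R, a = e * r := by
  rw [Subgroup.sup_eq_closure] at ha
  induction ha using Subgroup.closure_induction with
  | mem x hx =>
    rcases hx with hx | hx
    · exact ⟨x, hx, 1, R.one_mem, by simp⟩
    · exact ⟨1, E.one_mem, x, hx, by simp⟩
  | one => exact ⟨1, E.one_mem, 1, R.one_mem, by simp⟩
  | mul x y _ _ hx hy =>
    obtain ⟨e, he, r, hr, rfl⟩ := hx
    obtain ⟨e', he', r', hr', rfl⟩ := hy
    refine ⟨e * e', E.mul_mem he he', r * r', R.mul_mem hr hr', ?_⟩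
    calc e * r * (e' * r') = e * (r * e') * r' := by group
      _ = e * (e' * r) * r' := by rw [hc e' he' r hr]
      _ = e * e' * (r * r') := by group
  | inv x _ hx =>
    obtain ⟨e, he, r, hr, rfl⟩ := hx
    refine ⟨e⁻¹, E.inv_mem he, r⁻¹, R.inv_mem hr, ?_⟩
    rw [mul_inv_rev]
    have := hc e⁻¹ (E.inv_mem he) r⁻¹ (R.inv_mem hr)
    exact this.symm

theorem class_two_of_symplectic {X : Type u} [Group X] [Finite X] {p : ℕ} [Fact p.Prime] (hp : p ≠ 2)
    (hX : IsPGroup p X)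
    (hsymp : ∀ A : Subgroup X, A.Characteristic → IsMulCommutative A → IsCyclic A) :
    ∀ a b : X, (a * b * a⁻¹ * b⁻¹) ∈ Subgroup.center X := by
  obtain ⟨E, R, hc, hsup, hE, hR⟩ := Cfsg.Agent.S3762.result hX hsymp
  have hRc : IsCyclic R := hR.resolve_right (fun h => hp h.1)
  have hRab : ∀ r ∈ R, ∀ s ∈ R, r * s = s * r := by
    intro r hr s hs
    have := hRc.commutative.is_comm.comm (⟨r, hr⟩ : R) ⟨s, hs⟩
    exact congrArg Subtype.val this
  have hdec : ∀ a : X, ∃ e ∈ E, ∃ r ∈ R, a = e * r := fun a =>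
    exists_mul_of_mem_sup_comm hc (by rw [hsup]; trivial)
  -- commutators of `E` commute with `E`
  have hEc : ∀ e ∈ E, ∀ e' ∈ E, ∀ f ∈ E, f * (e * e' * e⁻¹ * e'⁻¹) = (e * e' * e⁻¹ * e'⁻¹) * f := by
    intro e he e' he' f hf
    rcases hE with rfl | hE
    · have h1 : e = 1 := Subgroup.mem_bot.mp he
      have h2 : e' = 1 := Subgroup.mem_bot.mp he'
      subst h1 h2
      simp
    · have hcomm : commutator (↥E) = Subgroup.center (↥E) := hE.1.2.2
      have hm : (⟨e, he⟩ : ↥E) * ⟨e', he'⟩ * (⟨e, he⟩ : ↥E)⁻¹ * (⟨e', he'⟩ : ↥E)⁻¹ ∈ Subgroup.center (↥E) := by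
        rw [← hcomm]
        exact Subgroup.commutator_mem_commutator (Subgroup.mem_top _) (Subgroup.mem_top _)
      have := (Subgroup.mem_center_iff.mp hm) ⟨f, hf⟩
      exact congrArg Subtype.val this
  intro a b
  obtain ⟨e, he, r, hr, rfl⟩ := hdec a
  obtain ⟨e', he', r', hr', rfl⟩ := hdec b
  have hcomm : e * r * (e' * r') * (e * r)⁻¹ * (e' * r')⁻¹ = e * e' * e⁻¹ * e'⁻¹ := by
    have h1 : r * e' = e' * r := (hc e' he' r hr).symm
    have h2 : r * r' = r' * r := hRab r hr r' hr'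
    have h3 : e * r * (e' * r') = e * e' * (r' * r) := by
      calc e * r * (e' * r') = e * (r * e') * r' := by group
        _ = e * (e' * r) * r' := by rw [h1]
        _ = e * e' * (r * r') := by group
        _ = e * e' * (r' * r) := by rw [h2]
    have h4 : (e * r)⁻¹ = e⁻¹ * r⁻¹ := by
      rw [mul_inv_rev]
      exact (hc e⁻¹ (E.inv_mem he) r⁻¹ (R.inv_mem hr)).symm
    have h5 : (e' * r')⁻¹ = e'⁻¹ * r'⁻¹ := by
      rw [mul_inv_rev]
      exact (hc e'⁻¹ (E.inv_mem he') r'⁻¹ (R.inv_mem hr')).symm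
    rw [h3, h4, h5]
    have h6 : r' * r * (e⁻¹ * r⁻¹) = e⁻¹ * r' := by
      have h7 : r * e⁻¹ = e⁻¹ * r := (hc e⁻¹ (E.inv_mem he) r hr).symm
      have h8 : r' * e⁻¹ = e⁻¹ * r' := (hc e⁻¹ (E.inv_mem he) r' hr').symm
      calc r' * r * (e⁻¹ * r⁻¹) = r' * (r * e⁻¹) * r⁻¹ := by group
        _ = r' * (e⁻¹ * r) * r⁻¹ := by rw [h7]
        _ = r' * e⁻¹ := by group
        _ = e⁻¹ * r' := h8
    have h9 : r' * (e'⁻¹ * r'⁻¹) = e'⁻¹ := by
      have h10 : r' * e'⁻¹ = e'⁻¹ * r' := (hc e'⁻¹ (E.inv_mem he') r' hr').symm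
      calc r' * (e'⁻¹ * r'⁻¹) = (r' * e'⁻¹) * r'⁻¹ := by group
        _ = (e'⁻¹ * r') * r'⁻¹ := by rw [h10]
        _ = e'⁻¹ := by group
    calc e * e' * (r' * r) * (e⁻¹ * r⁻¹) * (e'⁻¹ * r'⁻¹)
        = e * e' * (r' * r * (e⁻¹ * r⁻¹)) * (e'⁻¹ * r'⁻¹) := by group
      _ = e * e' * (e⁻¹ * r') * (e'⁻¹ * r'⁻¹) := by rw [h6]
      _ = e * e' * e⁻¹ * (r' * (e'⁻¹ * r'⁻¹)) := by group
      _ = e * e' * e⁻¹ * e'⁻¹ := by rw [h9]
  rw [hcomm, Subgroup.mem_center_iff]
  intro g
  obtain ⟨f, hf, s, hs, rfl⟩ := hdec g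
  have hcE : e * e' * e⁻¹ * e'⁻¹ ∈ E :=
    E.mul_mem (E.mul_mem (E.mul_mem he he') (E.inv_mem he)) (E.inv_mem he')
  have h1 : s * (e * e' * e⁻¹ * e'⁻¹) = (e * e' * e⁻¹ * e'⁻¹) * s :=
    (hc _ hcE s hs).symm
  calc f * s * (e * e' * e⁻¹ * e'⁻¹) = f * (s * (e * e' * e⁻¹ * e'⁻¹)) := by group
    _ = f * ((e * e' * e⁻¹ * e'⁻¹) * s) := by rw [h1]
    _ = (f * (e * e' * e⁻¹ * e'⁻¹)) * s := by group
    _ = ((e * e' * e⁻¹ * e'⁻¹) * f) * s := by rw [hEc e he e' he' f hf]
    _ = (e * e' * e⁻¹ * e'⁻¹) * (f * s) := by group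

/-- In a finite abelian group with at most `p` solutions of `x ^ p = 1`, there are at most `p ^ k`
solutions of `x ^ (p ^ k) = 1`. -/
theorem card_ker_pow_pow_le {H : Type u} [CommGroup H] [Finite H] {p : ℕ}
    (hΩ : Nat.card (powMonoidHom p : H →* H).ker ≤ p) (k : ℕ) :
    Nat.card (powMonoidHom (p ^ k) : H →* H).ker ≤ p ^ k := by
  induction k with
  | zero =>
    have : (powMonoidHom (p ^ 0) : H →* H).ker = ⊥ := by
      ext x
      simp [MonoidHom.mem_ker]
    rw [this]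
    simp
  | succ k ih =>
    set K := (powMonoidHom (p ^ (k + 1)) : H →* H).ker with hK
    set L := (powMonoidHom (p ^ k) : H →* H).ker with hL
    let f : K →* H := (powMonoidHom p : H →* H).comp K.subtype
    have hrange : f.range ≤ L := by
      rintro _ ⟨a, rfl⟩
      have ha : (a : H) ^ (p ^ (k + 1)) = 1 :=
        (MonoidHom.mem_ker (f := (powMonoidHom (p ^ (k + 1)) : H →* H))).mp a.2
      rw [hL, MonoidHom.mem_ker, powMonoidHom_apply]
      show ((a : H) ^ p) ^ (p ^ k) = 1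
      rw [← pow_mul, mul_comm, ← pow_succ]
      exact ha
    have h1 : Nat.card f.range ≤ Nat.card L := Subgroup.card_le_of_le hrange
    have h2 : Nat.card f.ker ≤ Nat.card (powMonoidHom p : H →* H).ker := by
      refine Nat.card_le_card_of_injective
        (fun x => (⟨(x.1 : H), ?_⟩ : (powMonoidHom p : H →* H).ker)) ?_
      · have := x.2
        rw [MonoidHom.mem_ker] at this
        rw [MonoidHom.mem_ker]
        exact this
      · intro x y hxy
        have h := congrArg Subtype.val hxy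
        exact Subtype.ext (Subtype.ext h)
    have h3 : Nat.card f.ker * Nat.card f.range = Nat.card K := by
      rw [← Subgroup.index_ker, Subgroup.card_mul_index]
    rw [← h3, pow_succ, mul_comm (p ^ k) p]
    exact Nat.mul_le_mul (h2.trans hΩ) (h1.trans ih)

/-- An abelian `p`-group all of whose elementary abelian subgroups have order `< p²` is cyclic. -/
theorem isCyclic_of_omega_small {G : Type u} [Group G] (A : Subgroup G) [Finite A] {p : ℕ} [Fact p.Prime]
    (hA : IsPGroup p A) (hAb : ∀ a ∈ A, ∀ b ∈ A, a * b = b * a)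
    (hsmall : ∀ E ≤ A, (∀ a ∈ E, a ^ p = 1) → Nat.card E < p ^ 2) : IsCyclic A := by
  classical
  let instC : CommGroup A :=
    { (inferInstance : Group A) with mul_comm := fun a b => Subtype.ext (hAb a a.2 b b.2) }
  have := Fintype.ofFinite A
  have hpp : p.Prime := Fact.out
  have hΩ : Nat.card (powMonoidHom p : A →* A).ker ≤ p := by
    set Ω := (powMonoidHom p : A →* A).ker with hΩdef
    have h1 : Nat.card (Ω.map A.subtype) < p ^ 2 := by
      refine hsmall _ (Subgroup.map_subtype_le _) ?_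
      rintro _ ⟨a, ha, rfl⟩
      have h := (MonoidHom.mem_ker (f := (powMonoidHom p : A →* A))).mp ha
      rw [powMonoidHom_apply] at h
      have h2 := congrArg Subtype.val h
      simpa using h2
    have h2 : Nat.card (Ω.map A.subtype) = Nat.card Ω :=
      Nat.card_congr (Ω.equivMapOfInjective A.subtype A.subtype_injective).symm.toEquiv
    rw [h2] at h1
    obtain ⟨m, hm⟩ := IsPGroup.iff_card.mp (hA.to_subgroup Ω)
    rw [hm] at h1 ⊢
    have hm2 : m < 2 := (Nat.pow_lt_pow_iff_right hpp.one_lt).mp h1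
    calc p ^ m ≤ p ^ 1 := Nat.pow_le_pow_right hpp.pos (by omega)
      _ = p := pow_one p
  have hk := card_ker_pow_pow_le hΩ
  refine isCyclic_of_card_pow_eq_one_le ?_
  intro n hn
  obtain ⟨e, m, hm, rfl⟩ := Nat.exists_eq_pow_mul_and_not_dvd hn.ne' p hpp.ne_one
  have hsub : Nat.card {a : A // a ^ (p ^ e * m) = 1} ≤ Nat.card (powMonoidHom (p ^ e) : A →* A).ker := by
    refine Nat.card_le_card_of_injective
      (fun x => (⟨(x.1 : A), ?_⟩ : (powMonoidHom (p ^ e) : A →* A).ker)) ?_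
    · rw [MonoidHom.mem_ker, powMonoidHom_apply]
      obtain ⟨j, hj⟩ := IsPGroup.iff_orderOf.mp hA x.1
      have hdvd : orderOf x.1 ∣ p ^ e * m := orderOf_dvd_of_pow_eq_one x.2
      have hcop : Nat.Coprime (p ^ j) m := Nat.Coprime.pow_left j ((Nat.Prime.coprime_iff_not_dvd hpp).mpr hm)
      rw [hj] at hdvd
      have := hcop.dvd_of_dvd_mul_right hdvd
      rw [← hj] at this
      exact orderOf_dvd_iff_pow_eq_one.mp this
    · intro x y hxy
      have h := congrArg Subtype.val hxy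
      exact Subtype.ext h
  have hcard : (Finset.univ.filter fun a : A => a ^ (p ^ e * m) = 1).card
      = Nat.card {a : A // a ^ (p ^ e * m) = 1} := by
    rw [Nat.card_eq_fintype_card, Fintype.card_subtype]
  rw [hcard]
  calc Nat.card {a : A // a ^ (p ^ e * m) = 1} ≤ Nat.card (powMonoidHom (p ^ e) : A →* A).ker := hsub
    _ ≤ p ^ e := hk e
    _ ≤ p ^ e * m := Nat.le_mul_of_pos_right _ (Nat.pos_of_ne_zero (by
        rintro rfl
        exact hm (dvd_zero p)))

end Cfsg.Agent.Lib.S4997
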