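import Mathlib
import Cfsg.Agent.Lib.S4997.Defs
import Cfsg.Agent.Lib.S4997.Imprim
import Cfsg.Agent.Lib.S4997.Hyper
import Cfsg.Agent.Lib.S4997.Symp
import Cfsg.Agent.Lib.S4997.Regular

/-! Piece F of S4997: Lemma G. -/

namespace Cfsg.Agent.Lib.S4997
universe u

namespace LemmaGAux

variable {Γ : Type u} [Group Γ]

/-- The elements of order dividing `p` of an abelian subgroup. -/
def omegaSub (A : Subgroup Γ) (p : ℕ) (hAb : ∀ a ∈ A, ∀ b ∈ A, a * b = b * a) : Subgroup Γ where
  carrier := {a | a ∈ A ∧ a ^ p = 1}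
  one_mem' := ⟨A.one_mem, one_pow p⟩
  mul_mem' := by
    rintro a b ⟨ha, ha'⟩ ⟨hb, hb'⟩
    refine ⟨A.mul_mem ha hb, ?_⟩
    have hc : Commute a b := hAb a ha b hb
    rw [hc.mul_pow, ha', hb', one_mul]
  inv_mem' := by
    rintro a ⟨ha, ha'⟩
    exact ⟨A.inv_mem ha, by rw [inv_pow, ha', inv_one]⟩

theorem omegaSub_normal {A : Subgroup Γ} (hA : A.Normal) {p : ℕ} (hAb : ∀ a ∈ A, ∀ b ∈ A, a * b = b * a) :
    (omegaSub A p hAb).Normal := by
  constructor
  rintro a ⟨ha, ha'⟩ g
  refine ⟨hA.conj_mem a ha g, ?_⟩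
  rw [conj_pow, ha']
  group

end LemmaGAux

open LemmaGAux in
theorem lemmaG_faithful {Γ V : Type u} [Group Γ] [Finite Γ] [AddCommGroup V] [Finite V]
    [DistribMulAction Γ V] {p r : ℕ} [Fact p.Prime] [Fact r.Prime] (hp : p ≠ 2) (hrp : r ≠ p)
    (hVr : ∀ v : V, r • v = 0)
    (hirr : ∀ W : AddSubgroup V, (∀ g : Γ, ∀ v ∈ W, g • v ∈ W) → W = ⊥ ∨ W = ⊤)
    (hfaith : ∀ g : Γ, (∀ v : V, g • v = v) → g = 1)
    (IH : LemmaGBelow.{u} p r (Nat.card V))
    (R : Subgroup Γ) (hRn : R.Normal) (hR : IsPGroup p R) {x : Γ} (hx : x ∈ R) (hx1 : x ≠ 1) :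
    ∃ v : V, ∀ g : Γ, (g * x * g⁻¹) • v ≠ v := by
  classical
  by_cases hE : ∃ E : Subgroup Γ, E.Normal ∧ (∀ a ∈ E, ∀ b ∈ E, a * b = b * a) ∧ (∀ a ∈ E, a ^ p = 1) ∧
      p ^ 2 ≤ Nat.card E
  · obtain ⟨E, hEn, hEab, hEexp, hEcard⟩ := hE
    obtain ⟨J, _, _, π, hsum, horth, hequi, hne, hJ⟩ :=
      exists_hyperplane_system hrp hVr hirr hfaith E hEn hEab hEexp hEcard
    exact imprimitive_step hp hVr hirr hfaith IH π hsum horth hequi hne hJ R hRn hR hx hx1
  -- every normal abelian subgroup has few elements of order `p`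
  have hsmall : ∀ A : Subgroup Γ, A.Normal → (∀ a ∈ A, ∀ b ∈ A, a * b = b * a) →
      ∀ D ≤ A, (∀ a ∈ D, a ^ p = 1) → Nat.card D < p ^ 2 := by
    intro A hA hAb D hDA hD
    by_contra hge
    push Not at hge
    apply hE
    refine ⟨omegaSub A p hAb, omegaSub_normal hA hAb, fun a ha b hb => hAb a ha.1 b hb.1,
      fun a ha => ha.2, hge.trans ?_⟩
    exact Subgroup.card_le_of_le (fun a ha => ⟨hDA ha, hD a ha⟩)
  haveI hV : Nontrivial V := by
    by_contra hns
    rw [not_nontrivial_iff_subsingleton] at hns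
    exact hx1 (hfaith x (fun v => Subsingleton.elim _ _))
  haveI : R.Normal := hRn
  have hsymp : ∀ A : Subgroup R, A.Characteristic → IsMulCommutative A → IsCyclic A := by
    intro A hAc hAm
    have hA'n : (A.map R.subtype).Normal := inferInstance
    have hA'ab : ∀ a ∈ A.map R.subtype, ∀ b ∈ A.map R.subtype, a * b = b * a := by
      rintro _ ⟨a, ha, rfl⟩ _ ⟨b, hb, rfl⟩
      have h1 : (⟨a, ha⟩ : A) * ⟨b, hb⟩ = ⟨b, hb⟩ * ⟨a, ha⟩ := hAm.is_comm.comm _ _
      have h2 := congrArg (fun y : A => ((y : R) : Γ)) h1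
      simpa using h2
    have hA'p : IsPGroup p (A.map R.subtype) := hR.to_le (by
      rintro _ ⟨a, ha, rfl⟩
      exact a.2)
    have hc := isCyclic_of_omega_small (A.map R.subtype) hA'p hA'ab (hsmall _ hA'n hA'ab)
    have e : A ≃* A.map R.subtype := A.equivMapOfInjective R.subtype R.subtype_injective
    exact isCyclic_of_surjective e.symm e.symm.surjective
  have hcl := class_two_of_symplectic hp hR hsymp
  have hcyc : IsCyclic (Subgroup.center R) := hsymp _ inferInstance inferInstance
  haveI : Nontrivial R := ⟨⟨⟨x, hx⟩, 1, fun h => hx1 (congrArg Subtype.val h)⟩⟩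
  have hZ : ∃ z ∈ Subgroup.center R, z ≠ 1 ∧ z ^ p = 1 := by
    haveI := hR.center_nontrivial
    have hZp : IsPGroup p (Subgroup.center R) := IsPGroup.to_subgroup hR _
    obtain ⟨k, hk⟩ := hZp.exists_card_eq
    have hk0 : k ≠ 0 := by
      rintro rfl
      have := Finite.one_lt_card (α := Subgroup.center R)
      simp [hk] at this
    have hdvd : p ∣ Nat.card (Subgroup.center R) := by
      rw [hk]; exact dvd_pow_self p hk0
    obtain ⟨z, hz⟩ := exists_prime_orderOf_dvd_card' p hdvd
    refine ⟨z, z.2, ?_, ?_⟩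
    · intro h1
      have h2 : z = 1 := Subtype.ext h1
      rw [h2, orderOf_one] at hz
      exact (Fact.out : p.Prime).one_lt.ne hz
    · have h1 := pow_orderOf_eq_one z
      rw [hz] at h1
      exact congrArg Subtype.val h1
  -- the subgroup `Ω₁(Z(R))`
  have hZn : ((Subgroup.center R).map R.subtype).Normal := inferInstance
  have hZab : ∀ a ∈ (Subgroup.center R).map R.subtype, ∀ b ∈ (Subgroup.center R).map R.subtype, a * b = b * a := by
    rintro _ ⟨a, ha, rfl⟩ _ ⟨b, hb, rfl⟩
    have h1 : a * b = b * a := Subgroup.mem_center_iff.1 hb a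
    have h2 := congrArg (fun y : R => (y : Γ)) h1
    simpa using h2
  set Ω := omegaSub ((Subgroup.center R).map R.subtype) p hZab with hΩ
  have hΩn : Ω.Normal := omegaSub_normal hZn hZab
  have hΩcard : Nat.card Ω < p ^ 2 := hsmall _ hZn hZab Ω (fun a ha => ha.1) (fun a ha => ha.2)
  have hfpf : ∀ z ∈ Subgroup.center R, z ≠ 1 → z ^ p = 1 → ∀ v : V, z • v = v → v = 0 := by
    intro z hz hz1 hzp v hv
    have hzΩ : (z : Γ) ∈ Ω := ⟨⟨z, hz, rfl⟩, by rw [← Subgroup.coe_pow, hzp]; rfl⟩
    have hΩp : IsPGroup p Ω := hR.to_le (by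
      rintro _ ⟨⟨a, ha, rfl⟩, -⟩
      exact a.2)
    -- `Ω = ⟨z⟩`
    have hzo : orderOf (z : Γ) = p := by
      have hne : (z : Γ) ≠ 1 := fun h => hz1 (Subtype.ext h)
      apply orderOf_eq_prime _ hne
      rw [← Subgroup.coe_pow, hzp]; rfl
    have hΩz : Ω ≤ Subgroup.zpowers (z : Γ) := by
      obtain ⟨k, hk⟩ := hΩp.exists_card_eq
      have hk1 : k < 2 := by
        rw [hk] at hΩcard
        exact (Nat.pow_lt_pow_iff_right (Fact.out : p.Prime).one_lt).1 hΩcard
      have hle : Subgroup.zpowers (z : Γ) ≤ Ω := by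
        rw [Subgroup.zpowers_le]; exact hzΩ
      have hcard : Nat.card Ω ≤ Nat.card (Subgroup.zpowers (z : Γ)) := by
        rw [Nat.card_zpowers, hzo, hk]
        have : k ≤ 1 := by omega
        calc p ^ k ≤ p ^ 1 := Nat.pow_le_pow_right (Fact.out : p.Prime).pos this
          _ = p := pow_one p
      exact (Subgroup.eq_of_le_of_card_ge hle hcard).symm.le
    -- fixed points of `Ω`
    let W : AddSubgroup V :=
      { carrier := {v | ∀ c ∈ Ω, c • v = v}
        add_mem' := by
          intro a b ha hb c hc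
          rw [smul_add, ha c hc, hb c hc]
        zero_mem' := fun c _ => smul_zero c
        neg_mem' := by
          intro a ha c hc
          rw [smul_neg, ha c hc] }
    have hW : ∀ g : Γ, ∀ v ∈ W, g • v ∈ W := by
      intro g v hv c hc
      have h1 : g⁻¹ * c * g ∈ Ω := by simpa using hΩn.conj_mem c hc g⁻¹
      have h2 := hv _ h1
      calc c • g • v = g • ((g⁻¹ * c * g) • v) := by
            simp only [smul_smul]
            congr 1
            group
        _ = g • v := by rw [h2]
    rcases hirr W hW with h | h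
    · have hvW : v ∈ W := by
        intro c hc
        obtain ⟨k, rfl⟩ := hΩz hc
        have hfix : ∀ n : ℕ, (z : Γ) ^ n • v = v := by
          intro n
          induction n with
          | zero => simp
          | succ n ih =>
            rw [pow_succ, mul_smul]
            have : (z : Γ) • v = v := hv
            rw [this, ih]
        have hz_inv : ((z : Γ))⁻¹ • v = v := by
          have : (z : Γ) • v = v := hv
          nth_rewrite 1 [← this]
          simp
        have hfixz : ∀ n : ℕ, ((z : Γ)⁻¹) ^ n • v = v := by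
          intro n
          induction n with
          | zero => simp
          | succ n ih =>
            rw [pow_succ, mul_smul, hz_inv, ih]
        show (z : Γ) ^ k • v = v
        cases k with
        | ofNat n => simpa using hfix n
        | negSucc n =>
          rw [zpow_negSucc, ← inv_pow]
          exact hfixz (n + 1)
      rw [h] at hvW
      exact hvW
    · exfalso
      apply hz1
      apply Subtype.ext
      apply hfaith
      intro u
      have hu : u ∈ W := by rw [h]; exact AddSubgroup.mem_top u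
      exact hu _ hzΩ
  obtain ⟨v, hv⟩ := exists_regular_vector hp hrp hVr hR hcl hcyc hZ hfpf
  refine ⟨v, fun g hg => hx1 ?_⟩
  have h1 := hv ⟨g * x * g⁻¹, hRn.conj_mem x hx g⟩ hg
  have h2 : g * x * g⁻¹ = 1 := congrArg Subtype.val h1
  have h3 : x = g⁻¹ * (g * x * g⁻¹) * g := by group
  rw [h3, h2]
  group

theorem lemmaG {p r : ℕ} [Fact p.Prime] [Fact r.Prime] (hp : p ≠ 2) (hrp : r ≠ p) (n : ℕ) :
    LemmaGBelow.{u} p r n := by
  induction n with
  | zero =>
    intro Γ V _ _ _ _ _ hn
    exact absurd hn (Nat.not_lt_zero _)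
  | succ n ih =>
    intro Γ V _ _ _ _ _ hn hVr hirr R hRn hRa x hx hxv
    classical
    let ρ : Γ →* Equiv.Perm V := MulAction.toPermHom Γ V
    let Γ' : Subgroup (Equiv.Perm V) := ρ.range
    letI inst : DistribMulAction Γ' V :=
      { smul := fun g v => (g : Equiv.Perm V) v
        one_smul := fun v => rfl
        mul_smul := fun a b v => rfl
        smul_zero := by
          rintro ⟨_, γ, rfl⟩
          exact smul_zero γ
        smul_add := by
          rintro ⟨_, γ, rfl⟩ a b
          exact smul_add γ a b }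
    let π : Γ →* Γ' := ρ.rangeRestrict
    have hπs : Function.Surjective π := ρ.rangeRestrict_surjective
    have hπv : ∀ (g : Γ) (v : V), (π g) • v = g • v := fun _ _ => rfl
    have IH' : LemmaGBelow.{u} p r (Nat.card V) := by
      intro Γ₁ V₁ _ _ _ _ _ hc
      exact ih Γ₁ V₁ (lt_of_lt_of_le hc (Nat.lt_succ_iff.1 hn))
    have hirr' : ∀ W : AddSubgroup V, (∀ g : Γ', ∀ v ∈ W, g • v ∈ W) → W = ⊥ ∨ W = ⊤ := by
      intro W hW
      apply hirr W
      intro g v hv
      rw [← hπv]
      exact hW _ v hv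
    have hfaith' : ∀ g : Γ', (∀ v : V, g • v = v) → g = 1 := by
      intro g hg
      apply Subtype.ext
      apply Equiv.ext
      intro v
      exact hg v
    have hR'n : (R.map π).Normal := hRn.map π hπs
    have hR'p : IsPGroup p (R.map π) := by
      rintro ⟨_, a, ha, rfl⟩
      obtain ⟨k, hk⟩ := hRa a ha
      refine ⟨k, ?_⟩
      apply Subtype.ext
      apply Subtype.ext
      apply Equiv.ext
      intro v
      show ((ρ a) ^ (p ^ k) : Equiv.Perm V) v = v
      rw [← map_pow]
      exact hk v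
    have hx' : π x ∈ R.map π := ⟨x, hx, rfl⟩
    have hx1 : π x ≠ 1 := by
      obtain ⟨v, hv⟩ := hxv
      intro h
      apply hv
      rw [← hπv, h]
      exact one_smul _ v
    obtain ⟨v, hv⟩ := lemmaG_faithful hp hrp hVr hirr' hfaith' IH' (R.map π) hR'n hR'p hx' hx1
    refine ⟨v, fun g => ?_⟩
    have := hv (π g)
    rwa [← map_inv, ← map_mul, ← map_mul, hπv] at this

end Cfsg.Agent.Lib.S4997
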