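import Cfsg.Agent.Lib.S4997.Vanish
import Cfsg.Agent.Lib.Basic.PCore

/-!
# S4997: all elements whose `p`-part is outside `O_p(G)` are conjugate
-/

namespace Cfsg.Agent.Lib.S4997

universe u

theorem mem_class_set {G : Type u} [Group G] [Finite G] (hsolv : Group.IsSolvable G) {p : ℕ}
    [Fact p.Prime] (hp : p ≠ 2) {x u : G} (hxu : Commute x u) (hxp : ∃ k : ℕ, x ^ (p ^ k) = 1)
    (hu : (orderOf u).Coprime p) (hx : x ∉ Cfsg.pCore p G) :
    ConjClasses.mk (x * u) ∈ {C : ConjClasses G | (∀ g ∈ C.carrier, ∃ χ : Cfsg.IrrCharacter G, (χ : G → ℂ) g = 0) ∧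
      ∃ g ∈ C.carrier, p ∣ orderOf g} := by
  refine ⟨?_, x * u, ?_, ?_⟩
  · intro g hg
    rw [ConjClasses.mem_carrier_iff_mk_eq, ConjClasses.mk_eq_mk_iff_isConj] at hg
    obtain ⟨c, rfl⟩ := isConj_iff.1 hg.symm
    have h : c * (x * u) * c⁻¹ = (c * x * c⁻¹) * (c * u * c⁻¹) := by group
    rw [h]
    refine exists_vanishing_of_not_mem_pCore hsolv hp ?_ ?_ ?_ ?_
    · have : Commute (c * x * c⁻¹) (c * u * c⁻¹) := by
        show (c * x * c⁻¹) * (c * u * c⁻¹) = (c * u * c⁻¹) * (c * x * c⁻¹)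
        have h2 : x * u = u * x := hxu
        calc (c * x * c⁻¹) * (c * u * c⁻¹) = c * (x * u) * c⁻¹ := by group
          _ = c * (u * x) * c⁻¹ := by rw [h2]
          _ = _ := by group
      exact this
    · obtain ⟨k, hk⟩ := hxp
      refine ⟨k, ?_⟩
      rw [conj_pow, hk]
      simp
    · have : orderOf (c * u * c⁻¹) = orderOf u := by
        have := (MulAut.conj c).orderOf_eq u
        simpa [MulAut.conj_apply] using this
      rw [this]
      exact hu
    · intro hm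
      apply hx
      have hn : (Cfsg.pCore p G).Normal := inferInstance
      have := hn.conj_mem _ hm c⁻¹
      simpa [mul_assoc] using this
  · exact ConjClasses.mem_carrier_mk
  · obtain ⟨k, hk⟩ := hxp
    have hne : x ≠ 1 := by
      rintro rfl
      exact hx (Subgroup.one_mem _)
    have hord : orderOf x ∣ p ^ k := orderOf_dvd_of_pow_eq_one hk
    obtain ⟨j, hj, hj2⟩ := (Nat.dvd_prime_pow (Fact.out : p.Prime)).1 hord
    have hj0 : j ≠ 0 := by
      rintro rfl
      apply hne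
      simpa using hj2
    have hcop : (orderOf x).Coprime (orderOf u) := by
      rw [hj2]
      exact (Nat.Coprime.pow_left j hu.symm)
    rw [hxu.orderOf_mul_eq_mul_orderOf_of_coprime hcop, hj2]
    exact dvd_mul_of_dvd_left (dvd_pow_self p hj0) _

theorem isConj_of_one_class {G : Type u} [Group G] [Finite G] (hsolv : Group.IsSolvable G) {p : ℕ}
    [Fact p.Prime] (hp : p ≠ 2)
    (h1 : Set.ncard {C : ConjClasses G | (∀ g ∈ C.carrier, ∃ χ : Cfsg.IrrCharacter G, (χ : G → ℂ) g = 0) ∧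
      ∃ g ∈ C.carrier, p ∣ orderOf g} = 1)
    {x u x' u' : G} (hxu : Commute x u) (hxp : ∃ k : ℕ, x ^ (p ^ k) = 1) (hu : (orderOf u).Coprime p)
    (hx : x ∉ Cfsg.pCore p G) (hxu' : Commute x' u') (hxp' : ∃ k : ℕ, x' ^ (p ^ k) = 1)
    (hu' : (orderOf u').Coprime p) (hx' : x' ∉ Cfsg.pCore p G) : IsConj (x * u) (x' * u') := by
  obtain ⟨a, ha⟩ := Set.ncard_eq_one.1 h1
  have h2 := mem_class_set hsolv hp hxu hxp hu hx
  have h3 := mem_class_set hsolv hp hxu' hxp' hu' hx'
  rw [ha, Set.mem_singleton_iff] at h2 h3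
  rw [← ConjClasses.mk_eq_mk_iff_isConj, h2, h3]

end Cfsg.Agent.Lib.S4997
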