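import Mathlib
import Cfsg.Prelude.Def_Characters
import Cfsg.Prelude.Def_Solvable
import Cfsg.Agent.Lib.Basic.PCore

/-!
# S4997: the one-class reduction, with the vanishing lemma as a hypothesis.
-/

namespace Cfsg.Agent.Lib.S4997

universe u

theorem isConj_of_one_class_core {G : Type u} [Group G] [Finite G] {p : ℕ} [Fact p.Prime]
    (hvan : ∀ {x u : G}, Commute x u → (∃ k : ℕ, x ^ (p ^ k) = 1) → (orderOf u).Coprime p →
      x ∉ Cfsg.pCore p G → ∃ χ : Cfsg.IrrCharacter G, (χ : G → ℂ) (x * u) = 0)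
    (h1 : Set.ncard {C : ConjClasses G | (∀ g ∈ C.carrier, ∃ χ : Cfsg.IrrCharacter G, (χ : G → ℂ) g = 0) ∧
      ∃ g ∈ C.carrier, p ∣ orderOf g} = 1)
    {x u x' u' : G} (hxu : Commute x u) (hxp : ∃ k : ℕ, x ^ (p ^ k) = 1) (hu : (orderOf u).Coprime p)
    (hx : x ∉ Cfsg.pCore p G) (hxu' : Commute x' u') (hxp' : ∃ k : ℕ, x' ^ (p ^ k) = 1)
    (hu' : (orderOf u').Coprime p) (hx' : x' ∉ Cfsg.pCore p G) : IsConj (x * u) (x' * u') := by
  have key : ∀ {x u : G}, Commute x u → (∃ k : ℕ, x ^ (p ^ k) = 1) → (orderOf u).Coprime p →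
      x ∉ Cfsg.pCore p G →
      ConjClasses.mk (x * u) ∈ {C : ConjClasses G | (∀ g ∈ C.carrier, ∃ χ : Cfsg.IrrCharacter G, (χ : G → ℂ) g = 0) ∧
      ∃ g ∈ C.carrier, p ∣ orderOf g} := by
    intro x u hxu hxp hu hx
    have hpn : (Cfsg.pCore p G).Normal := Cfsg.Agent.Lib.Basic.PCore.pCore_normal p G
    refine ⟨?_, x * u, ?_, ?_⟩
    · intro g hg
      rw [ConjClasses.mem_carrier_iff_mk_eq, ConjClasses.mk_eq_mk_iff_isConj] at hg
      obtain ⟨c, hc⟩ := isConj_iff.mp hg.symm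
      have hc' : c * x * c⁻¹ * (c * u * c⁻¹) = g := by
        rw [← hc]; group
      have hcomm : Commute (c * x * c⁻¹) (c * u * c⁻¹) := by
        have := hxu.eq
        show c * x * c⁻¹ * (c * u * c⁻¹) = c * u * c⁻¹ * (c * x * c⁻¹)
        calc c * x * c⁻¹ * (c * u * c⁻¹) = c * (x * u) * c⁻¹ := by group
          _ = c * (u * x) * c⁻¹ := by rw [this]
          _ = _ := by group
      have hp' : ∃ k : ℕ, (c * x * c⁻¹) ^ (p ^ k) = 1 := by
        obtain ⟨k, hk⟩ := hxp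
        refine ⟨k, ?_⟩
        rw [conj_pow, hk]; simp
      have hu2 : (orderOf (c * u * c⁻¹)).Coprime p := by
        have : orderOf (c * u * c⁻¹) = orderOf u := by simpa using (MulAut.conj c).orderOf_eq u
        rwa [this]
      have hx2 : c * x * c⁻¹ ∉ Cfsg.pCore p G := by
        intro hmem
        apply hx
        have := hpn.conj_mem _ hmem c⁻¹
        simpa [mul_assoc] using this
      obtain ⟨χ, hχ⟩ := hvan hcomm hp' hu2 hx2
      exact ⟨χ, by rw [← hc']; exact hχ⟩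
    · rw [ConjClasses.mem_carrier_iff_mk_eq]
    · have hx1 : x ≠ 1 := fun h => hx (h ▸ Subgroup.one_mem _)
      obtain ⟨k, hk⟩ := hxp
      have hdvd : orderOf x ∣ p ^ k := orderOf_dvd_of_pow_eq_one hk
      obtain ⟨j, -, hj⟩ := (Nat.dvd_prime_pow (Fact.out : p.Prime)).1 hdvd
      have hj0 : j ≠ 0 := by
        rintro rfl
        apply hx1
        simpa using (orderOf_eq_one_iff.mp (by simpa using hj))
      have hcop : (orderOf x).Coprime (orderOf u) := by
        rw [hj]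
        exact (Nat.Coprime.pow_left j (Nat.Coprime.symm hu))
      rw [hxu.orderOf_mul_eq_mul_orderOf_of_coprime hcop, hj]
      exact Dvd.dvd.mul_right (dvd_pow_self p hj0) _
  obtain ⟨a, ha⟩ := Set.ncard_eq_one.mp h1
  have h2 := key hxu hxp hu hx
  have h3 := key hxu' hxp' hu' hx'
  rw [ha, Set.mem_singleton_iff] at h2 h3
  exact ConjClasses.mk_eq_mk_iff_isConj.mp (h2.trans h3.symm)

end Cfsg.Agent.Lib.S4997
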