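import Cfsg.Agent.Lib.S4997.FixBound
import Cfsg.Agent.Lib.S4997.Count

/-! Piece D5 of S4997: a `p`-group of class two with cyclic centre acting on `V` has a regular
vector; double count of fixed vectors, given the bound of piece D2 as a hypothesis. -/

set_option autoImplicit false

namespace Cfsg.Agent.Lib.S4997
universe u

namespace Regular

theorem final_numeric {p q c A s : ℕ} (hp : 3 ≤ p) (hs : p ≤ s) (hq : (p + 1) ^ s ≤ q)
    (hc : c ^ p ≤ q) (hc1 : 2 ≤ c) (hA : A < p * s ^ 2)
    (h : (p - 1) * (q - 1) ≤ A * (c - 1)) : False := by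
  obtain ⟨B, rfl⟩ : ∃ B, p = B + 1 := ⟨p - 1, by omega⟩
  have hB : 2 ≤ B := by omega
  simp only [Nat.add_sub_cancel] at h
  obtain ⟨d, rfl⟩ : ∃ d, c = d + 1 := ⟨c - 1, by omega⟩
  have hd : 1 ≤ d := by omega
  simp only [Nat.add_sub_cancel] at h
  have hq0 : 0 < q := lt_of_lt_of_le (pow_pos (by omega) _) hq
  obtain ⟨q', rfl⟩ : ∃ q', q = q' + 1 := ⟨q - 1, by omega⟩
  simp only [Nat.add_sub_cancel] at h
  set r := (d + 1) ^ B with hr
  have hr2 : 2 ≤ r := by
    calc 2 ≤ d + 1 := by omega
      _ = (d + 1) ^ 1 := (pow_one _).symm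
      _ ≤ (d + 1) ^ B := Nat.pow_le_pow_right (by omega) (by omega)
  have hcr : (d + 1) ^ (B + 1) = r * (d + 1) := pow_succ _ _
  have hrq : r * (d + 1) ≤ q' + 1 := hcr ▸ hc
  -- `B r < A`
  have h1 : B * r < A := by
    by_contra hcon
    have hA' : A ≤ B * r := not_lt.1 hcon
    have : B * q' ≤ B * (r * d) := by
      calc B * q' ≤ A * d := h
        _ ≤ (B * r) * d := Nat.mul_le_mul_right _ hA'
        _ = B * (r * d) := by ring
    have h2 : q' ≤ r * d := Nat.le_of_mul_le_mul_left this (by omega)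
    have h3 : r * (d + 1) = r * d + r := by ring
    omega
  have hBA : B < A := by nlinarith
  have h2 : B * (q' + 1) < A * (d + 1) := by nlinarith
  -- raise to the power
  have h3 : (B * (q' + 1)) ^ (B + 1) < (A * (d + 1)) ^ (B + 1) :=
    Nat.pow_lt_pow_left h2 (by omega)
  have h4 : (A * (d + 1)) ^ (B + 1) ≤ A ^ (B + 1) * (q' + 1) := by
    rw [mul_pow]
    exact Nat.mul_le_mul_left _ hc
  have h5 : (B * (q' + 1)) ^ (B + 1) = (B ^ (B + 1) * (q' + 1) ^ B) * (q' + 1) := by
    rw [mul_pow, pow_succ (q' + 1) B]; ring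
  have h6 : B ^ (B + 1) * (q' + 1) ^ B < A ^ (B + 1) := by
    have : (B ^ (B + 1) * (q' + 1) ^ B) * (q' + 1) < A ^ (B + 1) * (q' + 1) := by
      rw [← h5]; exact lt_of_lt_of_le h3 h4
    exact Nat.lt_of_mul_lt_mul_right this
  have h7 : A ^ (B + 1) ≤ ((B + 1) * s ^ 2) ^ (B + 1) := Nat.pow_le_pow_left hA.le _
  have h8 := numeric_ineq (p := B + 1) (s := s) hp hs
  simp only [Nat.add_sub_cancel] at h8
  have h9 : ((B + 1) + 1) ^ (s * B) ≤ (q' + 1) ^ B := by
    rw [pow_mul]; exact Nat.pow_le_pow_left hq _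
  have h10 : B ^ (B + 1) * ((B + 1) + 1) ^ (s * B) ≤ B ^ (B + 1) * (q' + 1) ^ B :=
    Nat.mul_le_mul_left _ h9
  omega

variable {X V : Type u} [Group X] [AddCommGroup V] [DistribMulAction X V]

theorem pow_fix {y : X} {v : V} (h : y • v = v) (a : ℕ) : y ^ a • v = v := by
  induction a with
  | zero => simp
  | succ n ih => rw [pow_succ, mul_smul, h, ih]

/-- In a class-two group, a commutator of `y` with `y ^ p = 1` has exponent `p`. -/
theorem comm_pow {X : Type u} [Group X] {y w z : X} (hz : y * w * y⁻¹ * w⁻¹ = z)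
    (hzc : ∀ a : X, a * z = z * a) (k : ℕ) : y ^ k * w * (y ^ k)⁻¹ * w⁻¹ = z ^ k := by
  induction k with
  | zero => simp
  | succ n ih =>
    have h1 : y ^ n * w * (y ^ n)⁻¹ = z ^ n * w := by
      calc y ^ n * w * (y ^ n)⁻¹ = (y ^ n * w * (y ^ n)⁻¹ * w⁻¹) * w := by group
        _ = z ^ n * w := by rw [ih]
    have h2 : y * w * y⁻¹ = z * w := by
      calc y * w * y⁻¹ = (y * w * y⁻¹ * w⁻¹) * w := by group
        _ = z * w := by rw [hz]
    have hcomm : ∀ a : X, a * z ^ n = z ^ n * a := fun a =>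
      (Commute.pow_right (show Commute a z from hzc a) n)
    calc y ^ (n + 1) * w * (y ^ (n + 1))⁻¹ * w⁻¹
        = y * (y ^ n * w * (y ^ n)⁻¹) * y⁻¹ * w⁻¹ := by rw [pow_succ']; group
      _ = y * (z ^ n * w) * y⁻¹ * w⁻¹ := by rw [h1]
      _ = (y * z ^ n) * w * y⁻¹ * w⁻¹ := by group
      _ = (z ^ n * y) * w * y⁻¹ * w⁻¹ := by rw [hcomm y]
      _ = z ^ n * (y * w * y⁻¹) * w⁻¹ := by group
      _ = z ^ n * (z * w) * w⁻¹ := by rw [h2]
      _ = z ^ (n + 1) := by rw [pow_succ]; group

end Regular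

open Regular in
/-- Piece D5 with the output of piece D2 as a hypothesis. -/
theorem exists_regular_vector_aux {X V : Type u} [Group X] [Finite X] [AddCommGroup V] [Finite V]
    [DistribMulAction X V] {p r : ℕ} [Fact p.Prime] [Fact r.Prime] (hp : p ≠ 2) (hrp : r ≠ p)
    (hVr : ∀ v : V, r • v = 0) [Nontrivial V]
    (hX : IsPGroup p X)
    (hcl : ∀ a b : X, (a * b * a⁻¹ * b⁻¹) ∈ Subgroup.center X)
    (hcyc : IsCyclic (Subgroup.center X))
    (hZ : ∃ z ∈ Subgroup.center X, z ≠ 1 ∧ z ^ p = 1)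
    (hfpf : ∀ z ∈ Subgroup.center X, z ≠ 1 → z ^ p = 1 → ∀ v : V, z • v = v → v = 0)
    (hD2 : ∃ n : ℕ, (Subgroup.center X).index ≤ n ^ 2 ∧ (p + 1) ^ n ≤ Nat.card V) :
    ∃ v : V, ∀ y : X, y • v = v → y = 1 := by
  classical
  have hpp : p.Prime := Fact.out
  have hp3 : 3 ≤ p := by
    have := hpp.two_le
    omega
  by_contra hno
  push Not at hno
  let _ : Fintype X := Fintype.ofFinite X
  let _ : Fintype V := Fintype.ofFinite V
  -- elements of order `p` fixing a nonzero vector
  have hstep : ∀ v : V, v ≠ 0 → ∃ y₁ : X, orderOf y₁ = p ∧ y₁ • v = v ∧ y₁ ∉ Subgroup.center X := by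
    intro v hv
    obtain ⟨y, hyv, hy1⟩ := hno v
    obtain ⟨k, hk⟩ := hX y
    obtain ⟨m, -, hm⟩ := (Nat.dvd_prime_pow hpp).1 (orderOf_dvd_of_pow_eq_one hk)
    have hm0 : m ≠ 0 := by
      rintro rfl
      rw [pow_zero, orderOf_eq_one_iff] at hm
      exact hy1 hm
    have hdvd : p ∣ orderOf y := by
      rw [hm]; exact dvd_pow_self p hm0
    have hord0 : orderOf y ≠ 0 := by
      rw [hm]; exact pow_ne_zero _ hpp.ne_zero
    have hord := orderOf_pow_orderOf_div hord0 hdvd
    refine ⟨y ^ (orderOf y / p), hord, pow_fix hyv _, ?_⟩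
    intro hc
    refine hv (hfpf _ hc ?_ ?_ v (pow_fix hyv _))
    · intro h1
      rw [h1, orderOf_one] at hord
      exact hpp.one_lt.ne hord
    · have h0 := pow_orderOf_eq_one (y ^ (orderOf y / p))
      rwa [hord] at h0
  -- the set `Ω''`
  let Om := {y : X // y ^ p = 1 ∧ y ∉ Subgroup.center X}
  let _ : Fintype Om := Fintype.ofFinite Om
  -- each nonzero vector is fixed by `p - 1` elements of `Om`
  have hA : ∀ v : V, v ≠ 0 → p - 1 ≤ (Finset.univ.filter (fun y : Om => y.1 • v = v)).card := by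
    intro v hv
    obtain ⟨y₁, hord, hfix, hnc⟩ := hstep v hv
    have hmem : ∀ i : ℕ, i < p - 1 → (y₁ ^ (i + 1)) ^ p = 1 ∧ y₁ ^ (i + 1) ∉ Subgroup.center X := by
      intro i hi
      refine ⟨?_, ?_⟩
      · rw [← pow_mul, mul_comm, pow_mul, ← hord, pow_orderOf_eq_one, one_pow]
      · intro hc
        have hcop : Nat.Coprime (i + 1) p :=
          (Nat.coprime_of_lt_prime (by omega) (by omega) hpp).symm
        exact hnc (by
          obtain ⟨m, -, hm⟩ := Nat.exists_mul_mod_eq_one_of_coprime hcop hpp.one_lt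
          have : y₁ = (y₁ ^ (i + 1)) ^ m := by
            rw [← pow_mul, ← pow_mod_orderOf y₁ ((i + 1) * m), hord, hm, pow_one]
          rw [this]
          exact Subgroup.pow_mem _ hc _)
    let g : ℕ → X := fun i => y₁ ^ (i + 1)
    have hinj : Set.InjOn g (Finset.range (p - 1) : Set ℕ) := by
      intro i hi j hj hij
      have hi' : i < p - 1 := by simpa using hi
      have hj' : j < p - 1 := by simpa using hj
      have := (pow_injOn_Iio_orderOf (x := y₁))
        (show i + 1 ∈ Set.Iio (orderOf y₁) by rw [hord]; exact Set.mem_Iio.2 (by omega))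
        (show j + 1 ∈ Set.Iio (orderOf y₁) by rw [hord]; exact Set.mem_Iio.2 (by omega)) hij
      omega
    have hcard : ((Finset.range (p - 1)).attach.image
        (fun i => (⟨g i.1, hmem i.1 (Finset.mem_range.1 i.2)⟩ : Om))).card = p - 1 := by
      rw [Finset.card_image_of_injective]
      · simp
      · intro i j hij
        have : g i.1 = g j.1 := congrArg Subtype.val hij
        exact Subtype.ext (hinj (Finset.mem_coe.2 i.2) (Finset.mem_coe.2 j.2) this)
    rw [← hcard]
    refine Finset.card_le_card ?_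
    intro y hy
    simp only [Finset.mem_image, Finset.mem_attach, true_and] at hy
    obtain ⟨i, rfl⟩ := hy
    simp only [Finset.mem_filter, Finset.mem_univ, true_and]
    exact pow_fix hfix _
  -- `Om` is nonempty, so `X` is not abelian
  obtain ⟨v₀, hv₀⟩ := exists_ne (0 : V)
  obtain ⟨y₀, hy₀o, hy₀v, hy₀c⟩ := hstep v₀ hv₀
  -- the index bound
  obtain ⟨n, hn1, hn2⟩ := hD2
  have hindex : p ^ 2 ≤ (Subgroup.center X).index := by
    obtain ⟨k, hk⟩ := IsPGroup.iff_card.1 hX
    have hdvd : (Subgroup.center X).index ∣ p ^ k := hk ▸ Subgroup.index_dvd_card _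
    obtain ⟨m, -, hm⟩ := (Nat.dvd_prime_pow hpp).1 hdvd
    have hnotcomm : ¬ ∀ a b : X, a * b = b * a := by
      intro hcomm
      exact hy₀c (Subgroup.mem_center_iff.2 (fun g => hcomm g y₀))
    rw [hm]
    refine Nat.pow_le_pow_right hpp.pos ?_
    by_contra hlt
    have hm' : m = 0 ∨ m = 1 := by omega
    rcases hm' with rfl | rfl
    · rw [pow_zero, Subgroup.index_eq_one] at hm
      exact hy₀c (by rw [hm]; exact Subgroup.mem_top _)
    · rw [pow_one] at hm
      have hc : Nat.card (X ⧸ Subgroup.center X) = p := hm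
      have : IsCyclic (X ⧸ Subgroup.center X) := isCyclic_of_prime_card hc
      have hcm := MonoidHom.isMulCommutative_of_isCyclic_of_ker_le_center
        (QuotientGroup.mk' (Subgroup.center X)) (by rw [QuotientGroup.ker_mk'])
      exact hnotcomm (fun a b => hcm.is_comm.comm a b)
  have hpn : p ≤ n := by
    have : p ^ 2 ≤ n ^ 2 := hindex.trans hn1
    exact (Nat.pow_le_pow_iff_left (by norm_num)).1 this
  -- the bound on centralizers
  have hbound : ∀ y : Om, Nat.card (fixAdd y.1 : AddSubgroup V) ^ p ≤ Nat.card V := by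
    intro y
    have hy := y.2.2
    rw [Subgroup.mem_center_iff] at hy
    push Not at hy
    obtain ⟨w, hw⟩ := hy
    let z := y.1 * w * y.1⁻¹ * w⁻¹
    have hzc : ∀ a : X, a * z = z * a := fun a =>
      Subgroup.mem_center_iff.1 (hcl y.1 w) a
    have hz1 : z ≠ 1 := by
      intro h
      apply hw
      have h' : y.1 * w * y.1⁻¹ * w⁻¹ = 1 := h
      have : y.1 * w = w * y.1 := by
        have h2 : y.1 * w * y.1⁻¹ = w := by
          calc y.1 * w * y.1⁻¹ = (y.1 * w * y.1⁻¹ * w⁻¹) * w := by group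
            _ = w := by rw [h']; simp
        calc y.1 * w = (y.1 * w * y.1⁻¹) * y.1 := by group
          _ = w * y.1 := by rw [h2]
      exact this.symm
    have hzp : z ^ p = 1 := by
      rw [← comm_pow (rfl : y.1 * w * y.1⁻¹ * w⁻¹ = z) hzc p, y.2.1]
      simp
    refine card_fixAdd_pow_le hrp hVr (rfl : y.1 * w * y.1⁻¹ * w⁻¹ = z) hzc hzp ?_
    intro i hi0 hip v hv
    have hzord : orderOf z = p := orderOf_eq_prime hzp hz1
    refine hfpf (z ^ i) (Subgroup.pow_mem _ (hcl y.1 w) i) ?_ ?_ v hv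
    · intro h
      have := orderOf_dvd_of_pow_eq_one h
      rw [hzord] at this
      exact absurd (Nat.le_of_dvd hi0 this) (by omega)
    · rw [← pow_mul, mul_comm, pow_mul, hzp, one_pow]
  -- maximum
  let f : Om → ℕ := fun y => Nat.card (fixAdd y.1 : AddSubgroup V)
  have : Nonempty Om := ⟨⟨y₀, by rw [← hy₀o]; exact pow_orderOf_eq_one _, hy₀c⟩⟩
  obtain ⟨ym, hym⟩ := Finite.exists_max f
  have hcm : f ym ^ p ≤ Nat.card V := hbound ym
  -- number of nonzero fixed vectors
  have hfixcard : ∀ y : Om, (Finset.univ.filter (fun v : V => v ≠ 0 ∧ y.1 • v = v)).card = f y - 1 := by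
    intro y
    have h1 : f y = (Finset.univ.filter (fun v : V => y.1 • v = v)).card := by
      show Nat.card (fixAdd y.1 : AddSubgroup V) = _
      rw [Nat.card_eq_fintype_card]
      exact Fintype.card_of_subtype _ (by
        intro x
        simp [mem_fixAdd])
    have h2 : Finset.univ.filter (fun v : V => v ≠ 0 ∧ y.1 • v = v) =
        (Finset.univ.filter (fun v : V => y.1 • v = v)).erase 0 := by
      ext x
      simp
    rw [h2, Finset.card_erase_of_mem (by simp), h1]
  have h2le : 2 ≤ f ym := by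
    have hfy₀ : 2 ≤ f ⟨y₀, by rw [← hy₀o]; exact pow_orderOf_eq_one _, hy₀c⟩ := by
      have hne : (Finset.univ.filter (fun v : V => v ≠ 0 ∧ y₀ • v = v)).card ≠ 0 := by
        rw [Finset.card_ne_zero]
        exact ⟨v₀, by simp [hv₀, hy₀v]⟩
      have := hfixcard ⟨y₀, by rw [← hy₀o]; exact pow_orderOf_eq_one _, hy₀c⟩
      simp only at this
      omega
    exact hfy₀.trans (hym _)
  -- double count
  have hdc : (p - 1) * (Nat.card V - 1) ≤ Nat.card Om * (f ym - 1) := by
    let S : Finset V := Finset.univ.filter (fun v => v ≠ 0)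
    have hS : S.card = Nat.card V - 1 := by
      have : S = Finset.univ.erase 0 := by
        ext x; simp [S]
      rw [this, Finset.card_erase_of_mem (Finset.mem_univ _), Nat.card_eq_fintype_card,
        Finset.card_univ]
    have hsum := Finset.sum_card_bipartiteAbove_eq_sum_card_bipartiteBelow
      (s := S) (t := (Finset.univ : Finset Om)) (fun v (y : Om) => y.1 • v = v)
    calc (p - 1) * (Nat.card V - 1) = S.card * (p - 1) := by rw [hS, mul_comm]
      _ ≤ ∑ v ∈ S, (Finset.univ.bipartiteAbove (fun v (y : Om) => y.1 • v = v) v).card := by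
          refine Finset.card_nsmul_le_sum S _ _ ?_
          intro v hv
          exact hA v (by simpa [S] using hv)
      _ = ∑ y : Om, (S.bipartiteBelow (fun v (y : Om) => y.1 • v = v) y).card := hsum
      _ ≤ ∑ _y : Om, (f ym - 1) := by
          refine Finset.sum_le_sum ?_
          intro y _
          have : S.bipartiteBelow (fun v (y : Om) => y.1 • v = v) y =
              Finset.univ.filter (fun v : V => v ≠ 0 ∧ y.1 • v = v) := by
            ext x
            simp [S, Finset.bipartiteBelow]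
          rw [this, hfixcard y]
          have := hym y
          omega
      _ = Nat.card Om * (f ym - 1) := by
          rw [Finset.sum_const, Finset.card_univ, Nat.card_eq_fintype_card, smul_eq_mul]
  have hOm : Nat.card Om ≤ p * ((Subgroup.center X).index - 1) :=
    card_pow_eq_one_notMem_center_le hcyc
  have hfin : (p - 1) * (Nat.card V - 1) ≤ (p * ((Subgroup.center X).index - 1)) * (f ym - 1) :=
    hdc.trans (Nat.mul_le_mul_right _ hOm)
  have hidx0 : 0 < (Subgroup.center X).index := Nat.pos_of_ne_zero Subgroup.index_ne_zero_of_finite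
  have hAlt : p * ((Subgroup.center X).index - 1) < p * n ^ 2 :=
    Nat.mul_lt_mul_of_pos_left (by omega) hpp.pos
  exact final_numeric hp3 hpn hn2 hcm h2le hAlt hfin

end Cfsg.Agent.Lib.S4997
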