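import Cfsg.Agent.Lib.S4997.Defs

/-! Piece P of S4997: a `p`-group, `p` odd, acting on a finite set has a subset with trivial stabilizer
(modulo the kernel of the action). -/

set_option autoImplicit false
set_option linter.style.haveILetI false

namespace Cfsg.Agent.Lib.S4997.SetStabAux

universe u

open MulAction

variable {Q Ω : Type u} [Group Q] [MulAction Q Ω]

theorem mem_orbit_smul_iff {M : Subgroup Q} {m : Q} (hm : m ∈ M) {x y : Ω} :
    m • x ∈ orbit M y ↔ x ∈ orbit M y := by
  constructor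
  · rintro ⟨n, hn⟩
    refine ⟨⟨m, hm⟩⁻¹ * n, ?_⟩
    have hn' : (n : Q) • y = m • x := hn
    show ((m⁻¹ * (n : Q) : Q)) • y = x
    rw [mul_smul, hn', inv_smul_smul]
  · rintro ⟨n, hn⟩
    refine ⟨⟨m, hm⟩ * n, ?_⟩
    have hn' : (n : Q) • y = x := hn
    show ((m * (n : Q) : Q)) • y = m • x
    rw [mul_smul, hn']

theorem mem_orbit_conj_iff {M : Subgroup Q} (hM : M.Normal) (g : Q) {x y : Ω} :
    g • y ∈ orbit M (g • x) ↔ y ∈ orbit M x := by
  constructor
  · rintro ⟨n, hn⟩
    have hn' : (n : Q) • g • x = g • y := hn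
    refine ⟨⟨g⁻¹ * n * g, by simpa using hM.conj_mem (n : Q) n.2 g⁻¹⟩, ?_⟩
    show ((g⁻¹ * (n : Q) * g : Q)) • x = y
    rw [mul_smul, mul_smul, hn', inv_smul_smul]
  · rintro ⟨n, hn⟩
    have hn' : (n : Q) • x = y := hn
    refine ⟨⟨g * n * g⁻¹, hM.conj_mem (n : Q) n.2 g⟩, ?_⟩
    show ((g * (n : Q) * g⁻¹ : Q)) • g • x = g • y
    rw [mul_smul, mul_smul, inv_smul_smul, hn']

/-- Number of points of `Δ` in the `M`-orbit of `x`. -/
noncomputable def cnt (M : Subgroup Q) (Δ : Set Ω) (x : Ω) : ℕ := (Δ ∩ orbit M x).ncard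

theorem cnt_smul_of_stab {M : Subgroup Q} (hM : M.Normal) {Δ : Set Ω} {g : Q}
    (hg : ∀ a : Ω, g • a ∈ Δ ↔ a ∈ Δ) (x : Ω) : cnt M Δ (g • x) = cnt M Δ x := by
  unfold cnt
  have : Δ ∩ orbit M (g • x) = (fun y => g • y) '' (Δ ∩ orbit M x) := by
    ext z
    constructor
    · rintro ⟨h1, h2⟩
      refine ⟨g⁻¹ • z, ⟨?_, ?_⟩, smul_inv_smul g z⟩
      · rw [← hg]; simpa using h1
      · rw [← mem_orbit_conj_iff hM g]; simpa using h2
    · rintro ⟨y, ⟨h1, h2⟩, rfl⟩
      exact ⟨(hg y).2 h1, (mem_orbit_conj_iff hM g).2 h2⟩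
  rw [this, Set.ncard_image_of_injective _ (MulAction.injective g)]

theorem cnt_smul_mem (M : Subgroup Q) (Δ : Set Ω) {m : Q} (hm : m ∈ M) (x : Ω) :
    cnt M Δ (m • x) = cnt M Δ x := by
  unfold cnt
  have : orbit M (m • x) = orbit M x := by
    have := MulAction.orbit_smul (⟨m, hm⟩ : M) x
    exact this
  rw [this]

/-- The key step: if `M` is a normal coatom, a subset separating two `M`-orbits in a `Q`-orbit has stabilizer in `M`. -/
theorem mem_of_stab {M : Subgroup Q} (hM : M.Normal) (hc : IsCoatom M) {Δ : Set Ω} {a : Ω} {t : Q}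
    (hdiff : cnt M Δ a ≠ cnt M Δ (t • a)) {g : Q} (hg : ∀ a : Ω, g • a ∈ Δ ↔ a ∈ Δ) : g ∈ M := by
  by_contra hgM
  let K : Subgroup Q :=
    { carrier := {q | ∀ x : Ω, cnt M Δ (q • x) = cnt M Δ x}
      mul_mem' := by
        intro q r hq hr x
        show cnt M Δ ((q * r) • x) = cnt M Δ x
        rw [mul_smul, hq, hr]
      one_mem' := by
        intro x
        rw [one_smul]
      inv_mem' := by
        intro q hq x
        have := hq (q⁻¹ • x)
        rw [smul_inv_smul] at this
        exact this.symm }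
  have hMK : M ≤ K := fun m hm x => cnt_smul_mem M Δ hm x
  have hgK : g ∈ K := fun x => cnt_smul_of_stab hM hg x
  have hlt : M < K := lt_of_le_of_ne hMK (fun e => hgM (e ▸ hgK))
  have htop : K = ⊤ := hc.2 K hlt
  have htK : t ∈ K := by rw [htop]; exact Subgroup.mem_top t
  exact hdiff (htK a).symm

theorem aux {p : ℕ} [Fact p.Prime] (hp : p ≠ 2) : ∀ n : ℕ, ∀ (Q Ω : Type u) [Group Q] [Finite Q]
    [MulAction Q Ω] [Finite Ω], IsPGroup p Q → Nat.card Q + Nat.card Ω = n →
    ∃ Δ : Set Ω, ∀ g : Q, (∀ a : Ω, g • a ∈ Δ ↔ a ∈ Δ) → ∀ a : Ω, g • a = a := by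
  intro n
  induction n using Nat.strong_induction_on with
  | _ n ih =>
    intro Q Ω _ _ _ _ hQ hn
    classical
    by_cases htrans : ∀ a b : Ω, ∃ g : Q, g • a = b
    · by_cases hsub : Subsingleton Ω
      · exact ⟨∅, fun g _ a => Subsingleton.elim _ _⟩
      · obtain ⟨a, a', hne⟩ := (not_subsingleton_iff_nontrivial.1 hsub).exists_pair_ne
        have hS : stabilizer Q a ≠ ⊤ := by
          intro h
          obtain ⟨g, hg⟩ := htrans a a'
          have : g ∈ stabilizer Q a := by rw [h]; exact Subgroup.mem_top g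
          exact hne ((mem_stabilizer_iff.1 this).symm.trans hg)
        obtain ⟨M, hc, hSM⟩ := (eq_top_or_exists_le_coatom (stabilizer Q a)).resolve_left hS
        haveI : Group.IsNilpotent Q := hQ.isNilpotent
        have hMn : M.Normal := Subgroup.NormalizerCondition.normal_of_coatom M Group.normalizerCondition_of_isNilpotent hc
        obtain ⟨t, htM⟩ : ∃ t, t ∉ M := by
          by_contra hcon
          push Not at hcon
          exact hc.1 (eq_top_iff.2 fun x _ => hcon x)
        have hcardM : Nat.card M < Nat.card Q := by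
          have h1 := Subgroup.card_subgroup_dvd_card M
          have h2 : Nat.card M ≠ Nat.card Q := by
            intro e
            have : M = ⊤ := Subgroup.eq_top_of_card_eq M e
            exact hc.1 this
          exact lt_of_le_of_ne (Nat.le_of_dvd Nat.card_pos h1) h2
        obtain ⟨Δ₀, hΔ₀⟩ := ih (Nat.card M + Nat.card Ω) (by omega) M Ω (hQ.to_subgroup M) rfl
        -- disjointness
        have hdisj : ∀ x, x ∈ orbit M a → x ∉ orbit M (t • a) := by
          rintro x ⟨m, hm⟩ ⟨m', hm'⟩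
          have h1 : (m : Q) • a = x := hm
          have h2 : (m' : Q) • t • a = x := hm'
          have h3 : ((m : Q)⁻¹ * (m' : Q) * t) • a = a := by
            rw [mul_smul, mul_smul, h2, ← h1, inv_smul_smul]
          have h4 := hSM (mem_stabilizer_iff.2 h3)
          have h5 : (m : Q)⁻¹ * (m' : Q) ∈ M := M.mul_mem (M.inv_mem m.2) m'.2
          exact htM ((Subgroup.mul_mem_cancel_left M h5).1 h4)
        -- the candidate set
        by_cases heq : cnt M Δ₀ a = cnt M Δ₀ (t • a)
        · -- complement inside the second orbit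
          let Δ : Set Ω := {x | (x ∈ Δ₀ ∧ x ∉ orbit M (t • a)) ∨ (x ∉ Δ₀ ∧ x ∈ orbit M (t • a))}
          have hcnt1 : cnt M Δ a = cnt M Δ₀ a := by
            unfold cnt
            congr 1
            ext x
            constructor
            · rintro ⟨h1 | h1, h2⟩
              · exact ⟨h1.1, h2⟩
              · exact absurd h1.2 (hdisj x h2)
            · rintro ⟨h1, h2⟩
              exact ⟨Or.inl ⟨h1, hdisj x h2⟩, h2⟩
          have hcnt2 : cnt M Δ (t • a) + cnt M Δ₀ (t • a) = (orbit M (t • a)).ncard := by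
            unfold cnt
            have e : Δ ∩ orbit M (t • a) = orbit M (t • a) \ Δ₀ := by
              ext x
              constructor
              · rintro ⟨h1 | h1, h2⟩
                · exact absurd h2 h1.2
                · exact ⟨h2, h1.1⟩
              · rintro ⟨h1, h2⟩
                exact ⟨Or.inr ⟨h2, h1⟩, h1⟩
            rw [e, Set.inter_comm]
            rw [add_comm]
            exact Set.ncard_inter_add_ncard_sdiff_eq_ncard _ _ (Set.toFinite _)
          have hodd : Odd (orbit M (t • a)).ncard := by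
            obtain ⟨k, hk⟩ := (hQ.to_subgroup M).card_orbit (t • a)
            rw [← _root_.Nat.card_coe_set_eq, hk]
            exact ((Fact.out : p.Prime).odd_of_ne_two hp).pow
          have hdiff : cnt M Δ a ≠ cnt M Δ (t • a) := by
            intro e
            rw [hcnt1, heq] at e
            rw [← e] at hcnt2
            rw [← hcnt2] at hodd
            exact (Nat.not_odd_iff_even.2 (Even.add_self _)) hodd
          refine ⟨Δ, fun g hg x => ?_⟩
          have hgM : g ∈ M := mem_of_stab hMn hc hdiff hg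
          have hstab : ∀ y : Ω, (⟨g, hgM⟩ : M) • y ∈ Δ₀ ↔ y ∈ Δ₀ := by
            intro y
            have h1 := hg y
            have h2 : g • y ∈ orbit M (t • a) ↔ y ∈ orbit M (t • a) := mem_orbit_smul_iff hgM
            show g • y ∈ Δ₀ ↔ y ∈ Δ₀
            simp only [Δ, Set.mem_ofPred_eq, h2] at h1
            by_cases h3 : y ∈ orbit M (t • a)
            · simpa [h3, not_iff_not] using h1
            · simpa [h3] using h1
          exact hΔ₀ ⟨g, hgM⟩ hstab x
        · refine ⟨Δ₀, fun g hg x => ?_⟩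
          have hgM : g ∈ M := mem_of_stab hMn hc heq hg
          exact hΔ₀ ⟨g, hgM⟩ hg x
    · push Not at htrans
      obtain ⟨a, b, hab⟩ := htrans
      let S₁ : SubMulAction Q Ω :=
        { carrier := orbit Q a
          smul_mem' := fun c x hx => by
            obtain ⟨g, rfl⟩ := hx
            exact ⟨c * g, by simp [mul_smul]⟩ }
      let S₂ : SubMulAction Q Ω :=
        { carrier := (orbit Q a)ᶜ
          smul_mem' := fun c x hx hx' => hx (by
            obtain ⟨g, hg⟩ := hx'
            refine ⟨c⁻¹ * g, ?_⟩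
            have hg' : g • a = c • x := hg
            show (c⁻¹ * g) • a = x
            rw [mul_smul, hg', inv_smul_smul]) }
      have hb₁ : b ∉ orbit Q a := by
        rintro ⟨g, hg⟩
        exact hab g hg
      have h1 : Nat.card S₁ < Nat.card Ω := Finite.card_subtype_lt (x := b) hb₁
      have h2 : Nat.card S₂ < Nat.card Ω := Finite.card_subtype_lt (x := a) (fun h => h (mem_orbit_self a))
      obtain ⟨Δ₁, hΔ₁⟩ := ih (Nat.card Q + Nat.card S₁) (by omega) Q S₁ hQ rfl
      obtain ⟨Δ₂, hΔ₂⟩ := ih (Nat.card Q + Nat.card S₂) (by omega) Q S₂ hQ rfl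
      refine ⟨(Subtype.val '' Δ₁) ∪ (Subtype.val '' Δ₂), fun g hg x => ?_⟩
      have hmem1 : ∀ y : S₁, (y : Ω) ∈ (Subtype.val '' Δ₁) ∪ (Subtype.val '' Δ₂) ↔ y ∈ Δ₁ := by
        intro y
        constructor
        · rintro (⟨z, hz, hzy⟩ | ⟨z, hz, hzy⟩)
          · rwa [← Subtype.ext hzy]
          · exact absurd y.2 (by rw [← hzy]; exact z.2)
        · intro h
          exact Or.inl ⟨y, h, rfl⟩
      have hmem2 : ∀ y : S₂, (y : Ω) ∈ (Subtype.val '' Δ₁) ∪ (Subtype.val '' Δ₂) ↔ y ∈ Δ₂ := by
        intro y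
        constructor
        · rintro (⟨z, hz, hzy⟩ | ⟨z, hz, hzy⟩)
          · exact absurd z.2 (by rw [hzy]; exact y.2)
          · rwa [← Subtype.ext hzy]
        · intro h
          exact Or.inr ⟨y, h, rfl⟩
      by_cases hx : x ∈ orbit Q a
      · have := hΔ₁ g (fun y => by
          rw [← hmem1, ← hmem1]
          exact hg y) ⟨x, hx⟩
        exact congrArg Subtype.val this
      · have := hΔ₂ g (fun y => by
          rw [← hmem2, ← hmem2]
          exact hg y) ⟨x, hx⟩
        exact congrArg Subtype.val this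

end Cfsg.Agent.Lib.S4997.SetStabAux

namespace Cfsg.Agent.Lib.S4997

universe u

theorem exists_set_trivial_stabilizer {Q Ω : Type u} [Group Q] [Finite Q] [MulAction Q Ω] [Finite Ω]
    {p : ℕ} [Fact p.Prime] (hp : p ≠ 2) (hQ : IsPGroup p Q) :
    ∃ Δ : Set Ω, ∀ g : Q, (∀ a : Ω, g • a ∈ Δ ↔ a ∈ Δ) → ∀ a : Ω, g • a = a :=
  SetStabAux.aux hp _ Q Ω hQ rfl

end Cfsg.Agent.Lib.S4997
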