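import Mathlib
import Cfsg.Agent.Lib.S4997.Defs
import Cfsg.Agent.Lib.Basic.PCore
import Cfsg.Agent.Lib.Frobenius.Invariant
import Cfsg.Agent.Lib.Solvable.Hall

/-! Piece T2b of S4997: the pure group theory at the top. -/

namespace Cfsg.Agent.Lib.S4997
universe u
open Subgroup Cfsg.Agent.Lib.Basic.PCore

namespace TopAux
variable {G : Type u} [Group G] [Finite G] {p : ℕ} [Fact p.Prime]

/-- The hypothesis: all relevant elements are conjugate. -/
abbrev HC (p : ℕ) (G : Type u) [Group G] : Prop :=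
  ∀ x u x' u' : G, Commute x u → (∃ k : ℕ, x ^ (p ^ k) = 1) → (orderOf u).Coprime p →
      x ∉ Cfsg.pCore p G → Commute x' u' → (∃ k : ℕ, x' ^ (p ^ k) = 1) → (orderOf u').Coprime p →
      x' ∉ Cfsg.pCore p G → IsConj (x * u) (x' * u')

theorem orderOf_eq_of_isConj' {a b : G} (h : IsConj a b) : orderOf a = orderOf b := by
  obtain ⟨c, rfl⟩ := isConj_iff.1 h
  have h1 := orderOf_injective (MulAut.conj c).toMonoidHom (MulAut.conj c).injective a
  simpa using h1.symm

theorem orderOf_eq_pow {x : G} (hxp : ∃ k : ℕ, x ^ (p ^ k) = 1) : ∃ m, orderOf x = p ^ m := by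
  obtain ⟨k, hk⟩ := hxp
  obtain ⟨m, -, hm⟩ := (Nat.dvd_prime_pow (Fact.out : p.Prime)).1 (orderOf_dvd_of_pow_eq_one hk)
  exact ⟨m, hm⟩

theorem step_a (hc : HC p G) {x : G} (hxp : ∃ k : ℕ, x ^ (p ^ k) = 1) (hx : x ∉ Cfsg.pCore p G) :
    x ^ p ∈ Cfsg.pCore p G := by
  by_contra h
  have hpp : (Fact.out : p.Prime).one_lt = (Fact.out : p.Prime).one_lt := rfl
  obtain ⟨k, hk⟩ := id hxp
  have hxp' : ∃ k : ℕ, (x ^ p) ^ (p ^ k) = 1 := ⟨k, by
    rw [← pow_mul, mul_comm, pow_mul, hk, one_pow]⟩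
  have h1 := hc x 1 (x ^ p) 1 (Commute.one_right _) hxp (by simp) hx (Commute.one_right _) hxp'
    (by simp) h
  rw [mul_one, mul_one] at h1
  have h2 : orderOf x = orderOf (x ^ p) := orderOf_eq_of_isConj' h1
  obtain ⟨m, hm⟩ := orderOf_eq_pow hxp
  have hm0 : m ≠ 0 := by
    rintro rfl
    rw [pow_zero, orderOf_eq_one_iff] at hm
    exact hx (hm ▸ one_mem _)
  have hp1 : 1 < p := (Fact.out : p.Prime).one_lt
  have hd : p ∣ orderOf x := by
    rw [hm]; exact dvd_pow_self p hm0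
  have h3 := orderOf_pow_of_dvd (by omega : p ≠ 0) hd
  rw [← h2] at h3
  have hpos : 0 < orderOf x := by rw [hm]; positivity
  have h4 := Nat.div_lt_self hpos hp1
  omega

theorem step_b (hc : HC p G) {x u : G} (hxp : ∃ k : ℕ, x ^ (p ^ k) = 1) (hx : x ∉ Cfsg.pCore p G)
    (hxu : Commute x u) (hu : (orderOf u).Coprime p) : u = 1 := by
  have h1 := hc x u x 1 hxu hxp hu hx (Commute.one_right _) hxp (by simp) hx
  rw [mul_one] at h1
  have h2 : orderOf (x * u) = orderOf x := orderOf_eq_of_isConj' h1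
  obtain ⟨m, hm⟩ := orderOf_eq_pow hxp
  have hcop : (orderOf x).Coprime (orderOf u) := by
    rw [hm]
    exact (Nat.Coprime.pow_left m hu.symm)
  rw [hxu.orderOf_mul_eq_mul_orderOf_of_coprime hcop] at h2
  have hpos : 0 < orderOf x := by rw [hm]; exact pow_pos (Fact.out : p.Prime).pos m
  have h3 : orderOf u = 1 := by
    have : orderOf x * orderOf u = orderOf x * 1 := by rw [h2, mul_one]
    exact Nat.eq_of_mul_eq_mul_left hpos this
  exact orderOf_eq_one_iff.1 h3

theorem step_c (hc : HC p G) {x y : G} {q : ℕ} [Fact q.Prime] (hqp : q ≠ p)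
    (hxp : ∃ k : ℕ, x ^ (p ^ k) = 1) (hx : x ∉ Cfsg.pCore p G)
    (hy : orderOf y = q) (hxy : x * y * x⁻¹ * y⁻¹ ∈ Cfsg.pCore p G) : False := by
  classical
  set O := Cfsg.pCore p G with hO
  haveI hOn : O.Normal := pCore_normal p G
  have hOp : IsPGroup p O := pCore_isPGroup p
  have hq : q.Prime := Fact.out
  have hpp : p.Prime := Fact.out
  set Y := Subgroup.zpowers y with hY
  have hYcard : Nat.card Y = q := by rw [Nat.card_zpowers, hy]
  obtain ⟨n, hOcard⟩ := IsPGroup.iff_card.1 hOp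
  have hcop : (Nat.card Y).Coprime (Nat.card O) := by
    rw [hYcard, hOcard]
    exact Nat.Coprime.pow_right n ((Nat.coprime_primes hq hpp).2 hqp)
  have hYO : Y ⊓ O = ⊥ := Subgroup.inf_eq_bot_of_coprime hcop
  set H := Y ⊔ O with hH
  have hOH : O ≤ H := le_sup_right
  have hcardH : Nat.card H = p ^ n * q := by
    have h1 : O.relIndex H = q := by
      rw [hH, Subgroup.relIndex_sup_right, ← Subgroup.inf_relIndex_right, inf_comm, hYO,
        Subgroup.relIndex_bot_left, hYcard]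
    have h2 : Nat.card (O.subgroupOf H) = Nat.card O :=
      Nat.card_congr (Subgroup.subgroupOfEquivOfLe hOH).toEquiv
    have h3 := Subgroup.card_mul_index (O.subgroupOf H)
    rw [h2, hOcard] at h3
    have h4 : (O.subgroupOf H).index = q := h1
    rw [h4] at h3
    exact h3.symm
  have mkSyl : ∀ Z : Subgroup G, Z ≤ H → Nat.card Z = q →
      ∃ S : Sylow q H, (S : Subgroup H) = Z.subgroupOf H := by
    intro Z hZ hc
    have h1 : Nat.card (Z.subgroupOf H) = q := by
      rw [← hc]; exact Nat.card_congr (Subgroup.subgroupOfEquivOfLe hZ).toEquiv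
    have hp' : IsPGroup q (Z.subgroupOf H) := IsPGroup.of_card (n := 1) (by simpa using h1)
    have hidx : ¬ q ∣ (Z.subgroupOf H).index := by
      have h2 := Subgroup.card_mul_index (Z.subgroupOf H)
      rw [h1, hcardH, mul_comm (p ^ n)] at h2
      have h3 := Nat.eq_of_mul_eq_mul_left hq.pos h2
      rw [h3]
      intro hd
      have := hq.dvd_of_dvd_pow hd
      exact hqp ((Nat.prime_dvd_prime_iff_eq hq hpp).1 this)
    exact ⟨hp'.toSylow hidx, rfl⟩
  have hyY : y ∈ Y := Subgroup.mem_zpowers y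
  have hyH : y ∈ H := (le_sup_left : Y ≤ H) hyY
  have hY'H : (Subgroup.zpowers (x * y * x⁻¹)) ≤ H := by
    rw [Subgroup.zpowers_le]
    have : x * y * x⁻¹ = (x * y * x⁻¹ * y⁻¹) * y := by group
    rw [this]
    exact H.mul_mem (hOH hxy) hyH
  have hY'card : Nat.card (Subgroup.zpowers (x * y * x⁻¹)) = q := by
    rw [Nat.card_zpowers]
    have : orderOf (x * y * x⁻¹) = orderOf y := by
      have h := orderOf_injective (MulAut.conj x).toMonoidHom (MulAut.conj x).injective y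
      simpa using h
    rw [this, hy]
  obtain ⟨S₁, hS₁⟩ := mkSyl Y le_sup_left hYcard
  obtain ⟨S₂, hS₂⟩ := mkSyl _ hY'H hY'card
  obtain ⟨h, hh⟩ := MulAction.exists_smul_eq H S₁ S₂
  have hmem : MulAut.conj h • (⟨y, hyH⟩ : H) ∈ ((h • S₁ : Sylow q H) : Subgroup H) := by
    have hy1 : (⟨y, hyH⟩ : H) ∈ (S₁ : Subgroup H) := by
      rw [hS₁, Subgroup.mem_subgroupOf]
      exact hyY
    exact Subgroup.smul_mem_pointwise_smul _ _ _ hy1
  rw [hh, hS₂, Subgroup.mem_subgroupOf] at hmem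
  have hmem' : (h : G) * y * (h : G)⁻¹ ∈ Subgroup.zpowers (x * y * x⁻¹) := by
    simpa [MulAut.smul_def] using hmem
  -- decompose `h`
  have hhmem : (h : G) ∈ ((Y ⊔ O : Subgroup G) : Set G) := h.2
  rw [Subgroup.mul_normal] at hhmem
  obtain ⟨a, ha, o, ho, hao⟩ := Set.mem_mul.1 hhmem
  have ha1 : a * y = y * a := by
    obtain ⟨i, rfl⟩ := Subgroup.mem_zpowers_iff.1 ha
    exact (Commute.zpow_left (Commute.refl y) i).eq
  set o' := a * o * a⁻¹ with ho'
  have ho'O : o' ∈ O := hOn.conj_mem o ho a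
  have hh' : (h : G) = o' * a := by rw [← hao, ho']; group
  have h5 : (h : G) * y * (h : G)⁻¹ = o' * y * o'⁻¹ := by
    rw [hh']
    calc o' * a * y * (o' * a)⁻¹ = o' * (a * y) * a⁻¹ * o'⁻¹ := by group
      _ = o' * (y * a) * a⁻¹ * o'⁻¹ := by rw [ha1]
      _ = _ := by group
  rw [h5] at hmem'
  obtain ⟨i, hi⟩ := Subgroup.mem_zpowers_iff.1 hmem'
  have hi' : x ^ (0 : ℤ) * (x * y ^ i * x⁻¹) = o' * y * o'⁻¹ := by
    rw [← hi, conj_zpow]; simp
  set x' := x⁻¹ * o' with hx'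
  have hconjY : x' * y * x'⁻¹ = y ^ i := by
    have h6 : x * y ^ i * x⁻¹ = o' * y * o'⁻¹ := by simpa using hi'
    rw [hx']
    calc x⁻¹ * o' * y * (x⁻¹ * o')⁻¹ = x⁻¹ * (o' * y * o'⁻¹) * x := by group
      _ = x⁻¹ * (x * y ^ i * x⁻¹) * x := by rw [h6]
      _ = _ := by group
  let π := QuotientGroup.mk' O
  have hπO : ∀ g, π g = 1 ↔ g ∈ O := fun g => QuotientGroup.eq_one_iff g
  have hcomm : π x * π y = π y * π x := by
    have h7 := (hπO _).2 hxy
    simp only [map_mul, map_inv] at h7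
    rw [mul_inv_eq_one, mul_inv_eq_iff_eq_mul] at h7
    exact h7
  have hπx' : π x' = (π x)⁻¹ := by
    rw [hx', map_mul, map_inv, (hπO o').2 ho'O, mul_one]
  have hcommO : x' * y * x'⁻¹ * y⁻¹ ∈ O := by
    rw [← hπO]
    simp only [map_mul, map_inv, hπx', inv_inv]
    have h8 : (π x)⁻¹ * π y = π y * (π x)⁻¹ := by
      exact (Commute.inv_left (show Commute (π x) (π y) from hcomm)).eq
    rw [h8]
    group
  have hcommY : x' * y * x'⁻¹ * y⁻¹ ∈ Y := by
    rw [hconjY]
    exact Y.mul_mem (Y.zpow_mem hyY i) (Y.inv_mem hyY)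
  have h9 : x' * y * x'⁻¹ * y⁻¹ = 1 := by
    have : x' * y * x'⁻¹ * y⁻¹ ∈ Y ⊓ O := ⟨hcommY, hcommO⟩
    rw [hYO] at this
    exact this
  have hxyc : Commute x' y := by
    rw [mul_inv_eq_one, mul_inv_eq_iff_eq_mul] at h9
    exact h9
  have hx'O : x' ∉ O := by
    intro h
    apply hx
    rw [← hπO] at h ⊢
    rw [hπx'] at h
    exact inv_eq_one.1 h
  have hx'p : ∃ k : ℕ, x' ^ (p ^ k) = 1 := by
    obtain ⟨k, hk⟩ := hxp
    have h10 : x' ^ (p ^ k) ∈ O := by
      rw [← hπO, map_pow, hπx', inv_pow, ← map_pow, hk, map_one, inv_one]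
    obtain ⟨m, hm⟩ := hOp ⟨_, h10⟩
    refine ⟨k + m, ?_⟩
    have h11 : (x' ^ p ^ k) ^ p ^ m = 1 := by
      have := congrArg Subtype.val hm
      simpa using this
    rw [pow_add, pow_mul]
    exact h11
  have hcopu : (orderOf y).Coprime p := by
    rw [hy]
    exact (Nat.coprime_primes hq hpp).2 hqp
  have h12 := step_b hc hx'p hx'O hxyc hcopu
  rw [h12, orderOf_one] at hy
  exact hq.one_lt.ne hy

end TopAux

open TopAux in
theorem sylow_bound_of_isConj {G : Type u} [Group G] [Finite G] (hsolv : Group.IsSolvable G) {p : ℕ}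
    [Fact p.Prime]
    (hconj : ∀ x u x' u' : G, Commute x u → (∃ k : ℕ, x ^ (p ^ k) = 1) → (orderOf u).Coprime p →
      x ∉ Cfsg.pCore p G → Commute x' u' → (∃ k : ℕ, x' ^ (p ^ k) = 1) → (orderOf u').Coprime p →
      x' ∉ Cfsg.pCore p G → IsConj (x * u) (x' * u'))
    (P : Sylow p G) : Nat.card ↥(P : Subgroup G) ≤ p * Nat.card ↥(Cfsg.pCore p G) := by
  classical
  set O := Cfsg.pCore p G with hO
  haveI hOn : O.Normal := pCore_normal p G
  have hOp : IsPGroup p O := pCore_isPGroup p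
  have hpp : p.Prime := Fact.out
  let π := QuotientGroup.mk' O
  have hπO : ∀ g, π g = 1 ↔ g ∈ O := fun g => QuotientGroup.eq_one_iff g
  let f : (P : Subgroup G) →* G ⧸ O := π.comp (P : Subgroup G).subtype
  have hOP : O ≤ P := pCore_le_sylow P
  have hker : Nat.card f.ker = Nat.card O := by
    have h1 : f.ker = O.subgroupOf (P : Subgroup G) := by
      ext x
      rw [MonoidHom.mem_ker, Subgroup.mem_subgroupOf]
      exact hπO _
    rw [h1]
    exact Nat.card_congr (Subgroup.subgroupOfEquivOfLe hOP).toEquiv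
  have hcard : Nat.card (P : Subgroup G) = Nat.card f.range * Nat.card O := by
    have h1 := Subgroup.card_mul_index f.ker
    rw [Subgroup.index_ker, hker] at h1
    rw [← h1, mul_comm]
  rw [hcard]
  apply Nat.mul_le_mul_right
  by_contra hlt
  push Not at hlt
  have hrp : IsPGroup p f.range := P.isPGroup'.of_surjective f.rangeRestrict f.rangeRestrict_surjective
  obtain ⟨n, hn⟩ := IsPGroup.iff_card.1 hrp
  have hn2 : 2 ≤ n := by
    by_contra h
    have : n = 0 ∨ n = 1 := by omega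
    rcases this with rfl | rfl
    · rw [hn] at hlt; simp at hlt; have := hpp.pos; omega
    · rw [hn] at hlt; simp at hlt
  have hdvd : p ^ 2 ∣ Nat.card f.range := by
    rw [hn]; exact pow_dvd_pow p hn2
  obtain ⟨E', hE'⟩ := Sylow.exists_subgroup_card_pow_prime p hdvd
  set E := E'.map f.range.subtype with hE
  have hEcard : Nat.card E = p ^ 2 := by
    rw [← hE']
    exact Nat.card_congr (E'.equivMapOfInjective _ f.range.subtype_injective).symm.toEquiv
  have hElift : ∀ a ∈ E, ∃ x ∈ (P : Subgroup G), π x = a := by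
    intro a ha
    obtain ⟨b, -, rfl⟩ := ha
    obtain ⟨x, hx⟩ := b.2
    exact ⟨x, x.2, hx⟩
  have hPp : ∀ x ∈ (P : Subgroup G), ∃ k : ℕ, x ^ (p ^ k) = 1 := by
    intro x hx
    obtain ⟨k, hk⟩ := P.isPGroup' ⟨x, hx⟩
    refine ⟨k, ?_⟩
    have := congrArg Subtype.val hk
    simpa using this
  have hexp : ∀ a ∈ E, a ^ p = 1 := by
    intro a ha
    obtain ⟨x, hx, rfl⟩ := hElift a ha
    by_cases hxO : x ∈ O
    · rw [(hπO x).2 hxO, one_pow]
    · rw [← map_pow]
      exact (hπO _).2 (step_a hconj (hPp x hx) hxO)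
  have hnt : Nontrivial (G ⧸ O) := by
    by_contra hnt
    rw [not_nontrivial_iff_subsingleton] at hnt
    have h1 : Nat.card E = 1 := Nat.card_eq_one_iff_unique.2 ⟨inferInstance, ⟨1⟩⟩
    rw [hEcard] at h1
    have := Nat.one_lt_pow (n := 2) (by norm_num) hpp.one_lt
    omega
  haveI : Group.IsSolvable (G ⧸ O) := inferInstance
  obtain ⟨r, N, hr, hNn, hNb, hNp, -, hNexp⟩ :=
    Cfsg.Agent.Lib.Solvable.Hall.exists_normal_abelian_pSubgroup (G ⧸ O)
  haveI : Fact r.Prime := ⟨hr⟩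
  have hrp' : r ≠ p := by
    rintro rfl
    exact hNb ((pCore_eq_bot_iff.1 pCore_quotient_eq_bot) N hNn hNp)
  haveI := hNn
  apply Cfsg.Agent.Lib.Frobenius.Invariant.no_elementary_of_fpf' (G := G ⧸ O) (K := N) (E := E) hNb
    (fun g _ => by
      rw [Subgroup.normalizer_eq_top_iff.2 hNn]
      exact Subgroup.mem_top g) ?_ hEcard hexp
  intro a ha ha1 v hv hav
  by_contra hv1
  obtain ⟨x, hx, rfl⟩ := hElift a ha
  have hxO : x ∉ O := fun h => ha1 ((hπO x).2 h)
  obtain ⟨y₀, rfl⟩ := QuotientGroup.mk'_surjective O v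
  obtain ⟨e, hOe⟩ := IsPGroup.iff_card.1 hOp
  have hcopr : (p ^ e).Coprime r := Nat.Coprime.pow_left e ((Nat.coprime_primes hpp hr).2 hrp'.symm)
  obtain ⟨s, hs⟩ := Nat.exists_mul_mod_eq_one_of_coprime hcopr hr.one_lt
  set y := y₀ ^ (p ^ e * s) with hy
  have hv' : π y₀ ^ r = 1 := hNexp _ hv
  have hπy : π y = π y₀ := by
    rw [hy, map_pow]
    have h1 := Nat.div_add_mod (p ^ e * s) r
    rw [hs.2] at h1
    rw [← h1, pow_add, pow_mul, hv', one_pow, one_mul, pow_one]
  have hyr : y ^ r = 1 := by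
    have h1 : y₀ ^ r ∈ O := by
      rw [← hπO, map_pow]
      exact hv'
    have h2 : (y₀ ^ r) ^ Nat.card O = 1 := by
      have h3 : ((⟨_, h1⟩ : O) ^ Nat.card O : O) = 1 := pow_card_eq_one'
      have h4 := congrArg Subtype.val h3
      exact h4
    have h2' : (y₀ ^ r) ^ (p ^ e) = 1 := by rw [← hOe]; exact h2
    calc y ^ r = y₀ ^ (p ^ e * s * r) := by rw [hy, ← pow_mul]
      _ = ((y₀ ^ r) ^ (p ^ e)) ^ s := by
          rw [← pow_mul, ← pow_mul]; congr 1; ring
      _ = 1 := by rw [h2', one_pow]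
  have hy1 : y ≠ 1 := by
    intro h
    apply hv1
    rw [← hπy, h, map_one]
  have hyord : orderOf y = r := orderOf_eq_prime hyr hy1
  have hxy : x * y * x⁻¹ * y⁻¹ ∈ O := by
    rw [← hπO]
    simp only [map_mul, map_inv, hπy]
    have h1 : π x * π y₀ = π y₀ * π x := hav
    rw [h1]
    group
  exact step_c hconj hrp' (hPp x hx) hxO hyord hxy

end Cfsg.Agent.Lib.S4997
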