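import Mathlib
import Cfsg.Prelude.Def_Characters
import Cfsg.Agent.Lib.S4997.VanishCore
import Cfsg.Agent.Lib.S4997.LemmaG

/-! Piece T1d of S4997, final form: combine `exists_vanishing_core` with Lemma G. -/

set_option autoImplicit false

namespace Cfsg.Agent.Lib.S4997
universe u

/-- A `p`-element outside `O_p(G)` (for odd `p`, `G` solvable) times a commuting `p'`-element
is a zero of an irreducible character. -/
theorem exists_vanishing_of_not_mem_pCore {G : Type u} [Group G] [Finite G]
    (hsolv : Group.IsSolvable G) {p : ℕ} [Fact p.Prime] (hp : p ≠ 2) {x u : G}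
    (hxu : Commute x u) (hxp : ∃ k : ℕ, x ^ (p ^ k) = 1) (hu : (orderOf u).Coprime p)
    (hx : x ∉ Cfsg.pCore p G) : ∃ χ : Cfsg.IrrCharacter G, (χ : G → ℂ) (x * u) = 0 :=
  exists_vanishing_core (fun p r _ _ hp hrp n => lemmaG hp hrp n) hsolv hp hxu hxp hu hx

end Cfsg.Agent.Lib.S4997
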